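import Mathlib

/-!
The numerical lemmas for the lower bound on class numbers.
-/

set_option autoImplicit false

namespace CfsgLib.ClassLower

theorem arith_small {p k : ℕ} (hp : p.Prime) (hp64 : p ≤ 64) (hk : 4 ≤ k) : 2 ^ p ≤ p ^ (3 * k) := by
  refine le_trans ?_ (Nat.pow_le_pow_right hp.pos (show 12 ≤ 3 * k by omega))
  have := hp.two_le
  interval_cases p <;> norm_num

theorem arith_of_le_log {p k j : ℕ} (hj : 2 ^ j ≤ p) (h : p ≤ j * (3 * k)) :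
    2 ^ p ≤ p ^ (3 * k) :=
  calc 2 ^ p ≤ 2 ^ (j * (3 * k)) := Nat.pow_le_pow_right (by norm_num) h
    _ = (2 ^ j) ^ (3 * k) := pow_mul _ _ _
    _ ≤ p ^ (3 * k) := Nat.pow_le_pow_left hj _

theorem arith_large {p k : ℕ} (hp64 : 64 ≤ p) (h : p ^ 2 ≤ 128 * k ^ 2) :
    2 ^ p ≤ p ^ (3 * k) := by
  refine arith_of_le_log (j := 6) (by simpa using hp64) ?_
  by_contra! hc
  nlinarith

theorem arith_one_mid {p k : ℕ} (hp : p.Prime) (hp12 : p < 4096) (h : 4 * (p - 1) ≤ k ^ 2) :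
    2 ^ p ≤ p ^ (3 * k) := by
  have h2 := hp.two_le
  have hj : 2 ^ Nat.log 2 p ≤ p := Nat.pow_log_le_self 2 (by omega)
  refine arith_of_le_log hj ?_
  have hlt : p < 2 ^ (Nat.log 2 p + 1) := Nat.lt_pow_succ_log_self (by norm_num) p
  have hj1 : 1 ≤ Nat.log 2 p := Nat.le_log_of_pow_le (by norm_num) (by omega)
  have hj11 : Nat.log 2 p < 12 := Nat.log_lt_of_lt_pow (by omega) (by norm_num; omega)
  have hkey : p + 2 ≤ 36 * Nat.log 2 p ^ 2 := by
    revert hlt hj1 hj11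
    generalize Nat.log 2 p = j
    intro hlt h1 h11
    interval_cases j <;> norm_num at hlt ⊢ <;> omega
  by_contra! hc
  generalize Nat.log 2 p = j at hc hkey hj1
  have h3 : (j * (3 * k)) ^ 2 < p ^ 2 := Nat.pow_lt_pow_left hc (by norm_num)
  obtain ⟨q, rfl⟩ : ∃ q, p = q + 1 := ⟨p - 1, by omega⟩
  have h4 : 4 * q ≤ k ^ 2 := by simpa using h
  nlinarith

theorem pow_six_le (m : ℕ) : m ^ 6 ≤ 2592 ^ 3 * 2 ^ m := by
  rcases Nat.lt_or_ge m 10 with h | h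
  · interval_cases m <;> norm_num
  · induction m, h using Nat.le_induction with
    | base => norm_num
    | succ m hm ih =>
      have h9 : 9 * (m + 1) ≤ 10 * m := by omega
      have h6 : 9 ^ 6 * (m + 1) ^ 6 ≤ 10 ^ 6 * m ^ 6 := by
        rw [← mul_pow, ← mul_pow]; exact Nat.pow_le_pow_left h9 6
      rw [pow_succ 2 m]
      have : (10 : ℕ) ^ 6 ≤ 2 * 9 ^ 6 := by norm_num
      have h7 : 9 ^ 6 * (m + 1) ^ 6 ≤ 9 ^ 6 * (2592 ^ 3 * (2 ^ m * 2)) :=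
        h6.trans ((Nat.mul_le_mul this ih).trans (le_of_eq (by ring)))
      exact Nat.le_of_mul_le_mul_left h7 (by norm_num)

theorem arith_one_big {p k m : ℕ} (hp : 4096 ≤ p) (hkm : p ≤ k * m)
    (h : 2 ^ (m + 1) ≤ k ^ 2 * m ^ 2) : 2 ^ p ≤ p ^ (3 * k) := by
  rcases Nat.lt_or_ge (p ^ 3) (2 ^ m) with hm | hm
  · refine arith_of_le_log (j := 12) (by simpa using hp) ?_
    by_contra! hc
    have h1 : 1296 * k ^ 2 < p ^ 2 := by
      have := Nat.pow_lt_pow_left hc (show 2 ≠ 0 by norm_num)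
      calc 1296 * k ^ 2 = (12 * (3 * k)) ^ 2 := by ring
        _ < p ^ 2 := this
    have hm0 : 0 < m := by
      rcases Nat.eq_zero_or_pos m with rfl | hpos
      · simp at hkm; omega
      · exact hpos
    have h2 : 2592 * 2 ^ m < p ^ 2 * m ^ 2 :=
      calc 2592 * 2 ^ m = 1296 * 2 ^ (m + 1) := by ring
        _ ≤ 1296 * (k ^ 2 * m ^ 2) := Nat.mul_le_mul_left _ h
        _ = 1296 * k ^ 2 * m ^ 2 := by ring
        _ < p ^ 2 * m ^ 2 := Nat.mul_lt_mul_of_pos_right h1 (by positivity)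
    have h3 : (2592 * 2 ^ m) ^ 3 < (p ^ 2 * m ^ 2) ^ 3 := Nat.pow_lt_pow_left h2 (by norm_num)
    have h4 : (p ^ 3) ^ 2 * m ^ 6 ≤ (2 ^ m) ^ 2 * (2592 ^ 3 * 2 ^ m) :=
      Nat.mul_le_mul (Nat.pow_le_pow_left hm.le 2) (pow_six_le m)
    nlinarith [h3, h4]
  · calc 2 ^ p ≤ 2 ^ (k * m) := Nat.pow_le_pow_right (by norm_num) hkm
      _ = (2 ^ m) ^ k := by rw [← pow_mul, mul_comm]
      _ ≤ (p ^ 3) ^ k := Nat.pow_le_pow_left hm _
      _ = p ^ (3 * k) := by rw [← pow_mul]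

end CfsgLib.ClassLower
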