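import Mathlib
import Cfsg.Agent.S4200

/-!
Groups of order at most a multiple of their class number.
-/

set_option autoImplicit false

namespace CfsgLib.ClassLower

universe u v

/-- The order of `G` is at most `b` times its number of conjugacy classes. -/
def RB (G : Type u) [Group G] (b : ℕ) : Prop :=
  Nat.card G ≤ b * Nat.card (ConjClasses G)

variable {G : Type u} [Group G]

theorem RB.le {b c : ℕ} (h : RB G b) (hbc : b ≤ c) : RB G c :=
  h.trans (Nat.mul_le_mul_right _ hbc)

theorem card_conjClasses_congr {H : Type v} [Group H] (e : G ≃* H) :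
    Nat.card (ConjClasses G) = Nat.card (ConjClasses H) := by
  refine Nat.card_eq_of_bijective (ConjClasses.map e.toMonoidHom)
    ⟨?_, ConjClasses.map_surjective e.surjective⟩
  intro a b h
  induction a using Quotient.inductionOn with | h a =>
  induction b using Quotient.inductionOn with | h b =>
  refine ConjClasses.mk_eq_mk_iff_isConj.mpr ?_
  have h' : IsConj (e a) (e b) := ConjClasses.mk_eq_mk_iff_isConj.mp h
  simpa using e.symm.toMonoidHom.map_isConj h'

theorem RB.congr {H : Type v} [Group H] (e : G ≃* H) {b : ℕ} (h : RB G b) : RB H b := by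
  unfold RB
  rw [← Nat.card_congr e.toEquiv, ← card_conjClasses_congr e]
  exact h

theorem RB.subgroup [Finite G] {b : ℕ} (h : RB G b) (H : Subgroup G) : RB H b := by
  have h2 := (Cfsg.Agent.S4200.result H).2.1
  have h0 := H.card_mul_index
  refine Nat.le_of_mul_le_mul_right (?_ : _ * H.index ≤ _ * H.index)
    (Nat.pos_of_ne_zero Subgroup.index_ne_zero_of_finite)
  calc Nat.card H * H.index = Nat.card G := h0
    _ ≤ b * Nat.card (ConjClasses G) := h
    _ ≤ b * (H.index * Nat.card (ConjClasses H)) := Nat.mul_le_mul_left _ h2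
    _ = b * Nat.card (ConjClasses H) * H.index := by ring

theorem RB.of_injective [Finite G] {H : Type v} [Group H] [Finite H] (f : G →* H)
    (hf : Function.Injective f) {b : ℕ} (h : RB H b) : RB G b :=
  (h.subgroup f.range).congr (MonoidHom.ofInjective hf).symm

theorem RB.of_subgroup [Finite G] (H : Subgroup G) {b : ℕ} (h : RB H b) :
    RB G (H.index ^ 2 * b) := by
  have h1 := (Cfsg.Agent.S4200.result H).1
  calc Nat.card G = Nat.card H * H.index := H.card_mul_index.symm
    _ ≤ b * (H.index * Nat.card (ConjClasses G)) * H.index :=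
      Nat.mul_le_mul_right _ (h.trans (Nat.mul_le_mul_left _ h1))
    _ = H.index ^ 2 * b * Nat.card (ConjClasses G) := by ring

theorem card_center_le [Finite G] : Nat.card (Subgroup.center G) ≤ Nat.card (ConjClasses G) := by
  refine Nat.card_le_card_of_injective (fun z : Subgroup.center G => ConjClasses.mk (z : G)) ?_
  intro a b h
  obtain ⟨c, hc⟩ := isConj_iff.mp (ConjClasses.mk_eq_mk_iff_isConj.mp h)
  rw [Subgroup.mem_center_iff.mp a.2 c, mul_inv_cancel_right] at hc
  exact Subtype.ext hc

theorem RB.of_central [Finite G] (Z : Subgroup G) (hZ : Z ≤ Subgroup.center G) :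
    RB G Z.index := by
  calc Nat.card G = Z.index * Nat.card Z := by rw [mul_comm, Subgroup.card_mul_index]
    _ ≤ Z.index * Nat.card (ConjClasses G) :=
      Nat.mul_le_mul_left _ ((Subgroup.card_le_of_le hZ).trans card_center_le)

theorem card_conjClasses_pi {ι : Type v} [Fintype ι] (H : ι → Type u) [∀ i, Group (H i)]
    [∀ i, Finite (H i)] :
    Nat.card (ConjClasses (∀ i, H i)) = ∏ i, Nat.card (ConjClasses (H i)) := by
  have h := card_comm_eq_card_conjClasses_mul_card (∀ i, H i)
  have e : Nat.card {p : (∀ i, H i) × (∀ i, H i) // Commute p.1 p.2} =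
      ∏ i, Nat.card {p : H i × H i // Commute p.1 p.2} := by
    rw [← Nat.card_pi]
    exact Nat.card_congr
      { toFun := fun p i => ⟨(p.1.1 i, p.1.2 i), congrFun p.2 i⟩
        invFun := fun q => ⟨(fun i => (q i).1.1, fun i => (q i).1.2), funext fun i => (q i).2⟩
        left_inv := fun p => rfl
        right_inv := fun q => rfl }
  rw [e, Finset.prod_congr rfl fun i _ => card_comm_eq_card_conjClasses_mul_card (H i),
    Finset.prod_mul_distrib, ← Nat.card_pi (β := H)] at h
  exact (Nat.eq_of_mul_eq_mul_right Nat.card_pos h).symm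

theorem RB.pi {ι : Type v} [Fintype ι] {H : ι → Type u} [∀ i, Group (H i)] [∀ i, Finite (H i)]
    {b : ι → ℕ} (h : ∀ i, RB (H i) (b i)) : RB (∀ i, H i) (∏ i, b i) := by
  unfold RB
  rw [card_conjClasses_pi, Nat.card_pi, ← Finset.prod_mul_distrib]
  exact Finset.prod_le_prod' fun i _ => h i

theorem RB.prod {H : Type v} [Group H] [Finite G] [Finite H] {b c : ℕ} (hG : RB G b) (hH : RB H c) :
    RB (G × H) (b * c) := by
  have h : Nat.card (ConjClasses (G × H)) =
      Nat.card (ConjClasses G) * Nat.card (ConjClasses H) := by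
    have h := card_comm_eq_card_conjClasses_mul_card (G × H)
    have e : Nat.card {p : (G × H) × (G × H) // Commute p.1 p.2} =
        Nat.card {p : G × G // Commute p.1 p.2} * Nat.card {p : H × H // Commute p.1 p.2} := by
      rw [← Nat.card_prod]
      exact Nat.card_congr
        { toFun := fun p => (⟨(p.1.1.1, p.1.2.1), congrArg Prod.fst p.2.eq⟩,
            ⟨(p.1.1.2, p.1.2.2), congrArg Prod.snd p.2.eq⟩)
          invFun := fun q => ⟨((q.1.1.1, q.2.1.1), (q.1.1.2, q.2.1.2)), Prod.ext q.1.2 q.2.2⟩
          left_inv := fun p => rfl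
          right_inv := fun q => rfl }
    rw [e, card_comm_eq_card_conjClasses_mul_card, card_comm_eq_card_conjClasses_mul_card,
      mul_mul_mul_comm, ← Nat.card_prod (α := G)] at h
    exact (Nat.eq_of_mul_eq_mul_right Nat.card_pos h).symm
  unfold RB
  rw [h, Nat.card_prod, mul_mul_mul_comm]
  exact Nat.mul_le_mul hG hH

/-- Homomorphisms with trivial common kernel onto groups with bounded ratio. -/
theorem RB.of_family [Finite G] {ι : Type v} [Fintype ι] {H : ι → Type u} [∀ i, Group (H i)]
    [∀ i, Finite (H i)] (f : ∀ i, G →* H i) (hf : ∀ g, (∀ i, f i g = 1) → g = 1) {b : ι → ℕ}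
    (h : ∀ i, RB (H i) (b i)) : RB G (∏ i, b i) :=
  (RB.pi h).of_injective (MonoidHom.pi f)
    ((injective_iff_map_eq_one _).mpr fun g hg => hf g fun i => congrFun hg i)

end CfsgLib.ClassLower
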