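import Mathlib
import Cfsg.Agent.Lib.ClassLower.Ratio

/-!
Classes inside a normal subgroup and classes of the quotient by its centralizer.
-/

set_option autoImplicit false

namespace CfsgLib.ClassLower

universe u

variable {X : Type u} [Group X] [Finite X]

theorem exists_orbit_count (N : Subgroup X) [N.Normal] (hN : N ≤ Subgroup.centralizer (N : Set X)) :
    ∃ o, Nat.card N - 1 ≤ o * (Subgroup.centralizer (N : Set X)).index ∧
      Nat.card (ConjClasses (X ⧸ Subgroup.centralizer (N : Set X))) + o ≤
        Nat.card (ConjClasses X) := by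
  classical
  have : Fintype X := Fintype.ofFinite X
  set C := Subgroup.centralizer (N : Set X) with hC
  have : Fintype (ConjClasses X) := Fintype.ofFinite _
  let N0 : Finset X := {x | x ∈ N ∧ x ≠ 1}
  have hN0 : N0.card = Nat.card N - 1 := by
    have h : N0 = ({x | x ∈ N} : Finset X).erase 1 := by
      ext x; simp [N0, and_comm]
    rw [h, Finset.card_erase_of_mem (by simp [one_mem]), Nat.card_eq_fintype_card,
      Fintype.card_subtype]
  refine ⟨(N0.image ConjClasses.mk).card, ?_, ?_⟩
  · rw [← hN0, mul_comm]
    refine Finset.card_le_mul_card_image N0 _ fun c hc => ?_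
    obtain ⟨n, hn, rfl⟩ := Finset.mem_image.mp hc
    have hnN : n ∈ N := (Finset.mem_filter.mp hn).2.1
    have hidx : (Subgroup.centralizer ({n} : Set X)).index ≤ C.index :=
      Nat.le_of_dvd (Nat.pos_of_ne_zero Subgroup.index_ne_zero_of_finite)
        (Subgroup.index_dvd_of_le (Subgroup.centralizer_le (Set.singleton_subset_iff.mpr hnN)))
    refine le_trans ?_ hidx
    have hor : Nat.card (MulAction.orbit (ConjAct X) n) =
        (Subgroup.centralizer ({n} : Set X)).index := by
      rw [Nat.card_coe_set_eq, ← MulAction.index_stabilizer, ConjAct.stabilizer_eq_centralizer]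
      rfl
    rw [← hor, ← Fintype.card_coe, ← Nat.card_eq_fintype_card]
    refine Nat.card_le_card_of_injective (fun a => (⟨a.1, ?_⟩ : MulAction.orbit (ConjAct X) n))
      fun a b h => Subtype.ext (congrArg Subtype.val h :)
    exact ConjAct.mem_orbit_conjAct.mpr
      (ConjClasses.mk_eq_mk_iff_isConj.mp (Finset.mem_filter.mp a.2).2)
  · let π : ConjClasses X → ConjClasses (X ⧸ C) := ConjClasses.map (QuotientGroup.mk' C)
    have hπ : Function.Surjective π := ConjClasses.map_surjective (QuotientGroup.mk'_surjective C)
    let s : ConjClasses (X ⧸ C) → ConjClasses X :=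
      fun c => if c = ConjClasses.mk 1 then ConjClasses.mk 1 else Function.surjInv hπ c
    have hs : ∀ c, π (s c) = c := by
      intro c
      by_cases h : c = ConjClasses.mk 1
      · simp only [s, if_pos h]
        rw [h]
        show ConjClasses.mk ((1 : X) : X ⧸ C) = _
        rfl
      · simp only [s, if_neg h]
        exact Function.surjInv_eq hπ c
    refine le_trans (le_of_eq ?_) (Nat.card_le_card_of_injective
      (Sum.elim s (fun c : N0.image ConjClasses.mk => c.1)) ?_)
    · rw [Nat.card_sum]
      congr 1
      rw [Nat.card_eq_fintype_card, Fintype.card_coe]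
    · refine Function.Injective.sumElim (fun a b h => ?_) Subtype.val_injective fun a b h => ?_
      · rw [← hs a, h, hs]
      · obtain ⟨n, hn, hnb⟩ := Finset.mem_image.mp b.2
        obtain ⟨hnN, hn1⟩ := (Finset.mem_filter.mp hn).2
        rw [← hnb] at h
        have ha : a = ConjClasses.mk 1 := by
          rw [← hs a, h]
          show ConjClasses.mk ((n : X) : X ⧸ C) = _
          rw [(QuotientGroup.eq_one_iff n).mpr (hN hnN)]
        simp only [s, if_pos ha] at h
        obtain ⟨g, hg⟩ := isConj_iff.mp (ConjClasses.mk_eq_mk_iff_isConj.mp h)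
        rw [mul_one, mul_inv_cancel] at hg
        exact hn1 hg.symm

end CfsgLib.ClassLower
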