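import Mathlib

/-!
An upper bound for the index of the centralizer of a normal subgroup.
-/

set_option autoImplicit false

namespace CfsgLib.ClassLower

open Subgroup

universe u

variable {Y : Type u} [Group Y] [Finite Y]

theorem index_centralizer_step {E D : Subgroup Y} [E.Normal] {x : Y} (hx : x ∈ E)
    {m : ℕ} (hm : x ^ m ∈ D) {s : ℕ}
    (hs : Nat.card {a : Y // a ∈ E ∧ a ^ m = x ^ m} ≤ s) :
    (centralizer ((D ⊔ zpowers x : Subgroup Y) : Set Y)).index ≤
      (centralizer (D : Set Y)).index * s := by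
  classical
  set CD := centralizer (D : Set Y) with hCD
  set Cx := centralizer ({x} : Set Y) with hCx
  have hle : CD ⊓ Cx ≤ centralizer ((D ⊔ zpowers x : Subgroup Y) : Set Y) := by
    intro g hg
    have h : D ⊔ zpowers x ≤ centralizer {g} := by
      refine sup_le (fun d hd => ?_) ((zpowers_le).mpr ?_)
      · exact mem_centralizer_singleton_iff.mpr (mem_centralizer_iff.mp hg.1 d hd)
      · exact mem_centralizer_singleton_iff.mpr (mem_centralizer_singleton_iff.mp (hg.2 : g ∈ Cx)).symm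
    rw [mem_centralizer_iff]
    intro d hd
    exact mem_centralizer_singleton_iff.mp (h hd)
  refine (Nat.le_of_dvd (Nat.pos_of_ne_zero index_ne_zero_of_finite)
    (index_dvd_of_le hle)).trans ?_
  rw [inf_comm, ← Subgroup.relIndex_mul_index (inf_le_right : Cx ⊓ CD ≤ CD),
    Subgroup.inf_relIndex_right, mul_comm]
  refine Nat.mul_le_mul_left _ (le_trans ?_ hs)
  rw [Subgroup.relIndex, Subgroup.index]
  have hmem : ∀ g : CD, (g : Y) * x * (g : Y)⁻¹ ∈ E ∧ ((g : Y) * x * (g : Y)⁻¹) ^ m = x ^ m := by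
    intro g
    refine ⟨Normal.conj_mem inferInstance x hx g, ?_⟩
    rw [conj_pow, ← mem_centralizer_iff.mp g.2 (x ^ m) hm, mul_inv_cancel_right]
  refine Nat.card_le_card_of_injective
    (fun q => (⟨(q.out : Y) * x * (q.out : Y)⁻¹, hmem q.out⟩ : {a : Y // a ∈ E ∧ a ^ m = x ^ m}))
    (fun q q' h => ?_)
  rw [Subtype.mk.injEq] at h
  rw [← QuotientGroup.out_eq' q, ← QuotientGroup.out_eq' q', QuotientGroup.eq, mem_subgroupOf]
  refine mem_centralizer_singleton_iff.mpr ?_
  push_cast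
  calc (q.out : Y)⁻¹ * q'.out * x = (q.out : Y)⁻¹ * ((q'.out : Y) * x * (q'.out : Y)⁻¹) * q'.out := by
        group
    _ = (q.out : Y)⁻¹ * ((q.out : Y) * x * (q.out : Y)⁻¹) * q'.out := by rw [h]
    _ = x * ((q.out : Y)⁻¹ * q'.out) := by group

/-- The index of the centralizer of `E`, by doubling generation over `Z`. -/
theorem exists_index_centralizer_le {E Z : Subgroup Y} [E.Normal] (hZE : Z ≤ E)
    (hZc : Z ≤ center Y) {N e : ℕ}
    (hsol : ∀ (m : ℕ) (c : Y), 1 ≤ m → Nat.card {a : Y // a ∈ E ∧ a ^ m = c} ≤ N * m ^ e) :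
    ∃ l, 2 ^ l * Nat.card Z ≤ Nat.card E ∧
      (centralizer (E : Set Y)).index * Nat.card Z ^ e ≤ N ^ l * Nat.card E ^ e := by
  classical
  let P : Subgroup Y → Prop := fun D => Z ≤ D ∧ D ≤ E ∧ ∃ l, 2 ^ l * Nat.card Z ≤ Nat.card D ∧
      (centralizer (D : Set Y)).index * Nat.card Z ^ e ≤ N ^ l * Nat.card D ^ e
  have hbase : P Z := by
    refine ⟨le_rfl, hZE, 0, by simp, ?_⟩
    have h : centralizer (Z : Set Y) = ⊤ := centralizer_eq_top_iff_subset.mpr hZc
    simp [h]
  obtain ⟨D, ⟨hZD, hDE, l, hl1, hl2⟩, hmax⟩ :=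
    Set.exists_max_image {D : Subgroup Y | P D} (fun D => Nat.card D) (Set.toFinite _) ⟨Z, hbase⟩
  by_cases hED : E ≤ D
  · exact ⟨l, le_antisymm hDE hED ▸ hl1, le_antisymm hDE hED ▸ hl2⟩
  exfalso
  obtain ⟨x, hxE, hxD⟩ := SetLike.not_le_iff_exists.mp hED
  have hex : ∃ m, 1 ≤ m ∧ x ^ m ∈ D :=
    ⟨orderOf x, orderOf_pos x, by rw [pow_orderOf_eq_one]; exact one_mem _⟩
  obtain ⟨hm1, hmD⟩ := Nat.find_spec hex
  set m := Nat.find hex with hmdef
  have hmin : ∀ j, 1 ≤ j → x ^ j ∈ D → m ≤ j := fun j h1 h2 => Nat.find_le ⟨h1, h2⟩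
  have hm2 : 2 ≤ m := by
    rcases eq_or_lt_of_le hm1 with h | h
    · exact absurd (by simpa [← h] using hmD) hxD
    · exact h
  set D' := D ⊔ zpowers x with hD'
  have hD'E : D' ≤ E := sup_le hDE ((zpowers_le).mpr hxE)
  have hcard : m * Nat.card D ≤ Nat.card D' := by
    rw [mul_comm, ← Nat.card_fin m, ← Nat.card_prod]
    refine Nat.card_le_card_of_injective (fun dj => (⟨(dj.1 : Y) * x ^ (dj.2 : ℕ), mul_mem
      (le_sup_left (a := D) dj.1.2) (pow_mem (le_sup_right (a := D) (mem_zpowers x)) _)⟩ : D')) ?_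
    intro a b h
    have h' : (a.1 : Y) * x ^ (a.2 : ℕ) = (b.1 : Y) * x ^ (b.2 : ℕ) := congrArg Subtype.val h
    have key : ∀ c d : D, ∀ i j : Fin m, (c : Y) * x ^ (i : ℕ) = (d : Y) * x ^ (j : ℕ) →
        (i : ℕ) ≤ (j : ℕ) → i = j := by
      intro c d i j hcd hij
      rcases eq_or_lt_of_le hij with h0 | h0
      · exact Fin.ext h0
      · have h3 : x ^ ((j : ℕ) - i) ∈ D := by
          have : x ^ ((j : ℕ) - i) = (d : Y)⁻¹ * c := by
            rw [pow_sub _ h0.le, eq_inv_mul_iff_mul_eq, ← mul_assoc, ← hcd, mul_inv_cancel_right]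
          rw [this]; exact mul_mem (inv_mem d.2) c.2
        have := hmin _ (by omega) h3
        have := j.2
        omega
    have h2 : a.2 = b.2 := by
      rcases le_total (a.2 : ℕ) b.2 with h0 | h0
      · exact key _ _ _ _ h' h0
      · exact (key _ _ _ _ h'.symm h0).symm
    rw [h2] at h'
    exact Prod.ext (Subtype.ext (mul_right_cancel h')) h2
  have hD : 0 < Nat.card D := Nat.card_pos
  have hlt : Nat.card D < Nat.card D' :=
    lt_of_lt_of_le (by nlinarith) hcard
  refine absurd (hmax D' ⟨hZD.trans le_sup_left, hD'E, l + 1, ?_, ?_⟩) (not_le.mpr hlt)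
  · calc 2 ^ (l + 1) * Nat.card Z = 2 * (2 ^ l * Nat.card Z) := by ring
      _ ≤ m * Nat.card D := Nat.mul_le_mul hm2 hl1
      _ ≤ Nat.card D' := hcard
  · have hstep := index_centralizer_step hxE hmD (hsol m (x ^ m) hm1)
    calc (centralizer (D' : Set Y)).index * Nat.card Z ^ e
        ≤ (centralizer (D : Set Y)).index * (N * m ^ e) * Nat.card Z ^ e :=
          Nat.mul_le_mul_right _ hstep
      _ = (centralizer (D : Set Y)).index * Nat.card Z ^ e * (N * m ^ e) := by ring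
      _ ≤ N ^ l * Nat.card D ^ e * (N * m ^ e) := Nat.mul_le_mul_right _ hl2
      _ = N ^ (l + 1) * (m * Nat.card D) ^ e := by ring
      _ ≤ N ^ (l + 1) * Nat.card D' ^ e :=
          Nat.mul_le_mul_left _ (Nat.pow_le_pow_left hcard e)

end CfsgLib.ClassLower
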