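import Mathlib

/-!
Joint eigenspaces of a family of commuting endomorphisms.
-/

set_option autoImplicit false

namespace CfsgLib.ClassLower

open Module

universe u v w

variable {k : Type w} [Field k] {V : Type v} [AddCommGroup V] [Module k V] {ι : Type u}

/-- The joint eigenspace. -/
def jointEig (f : ι → Module.End k V) (χ : ι → k) : Submodule k V :=
  ⨅ i, (f i).eigenspace (χ i)

theorem mem_jointEig {f : ι → Module.End k V} {χ : ι → k} {x : V} :
    x ∈ jointEig f χ ↔ ∀ i, f i x = χ i • x := by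
  simp [jointEig, Submodule.mem_iInf]

theorem iSupIndep_jointEig (f : ι → Module.End k V) (hcomm : ∀ i j, Commute (f i) (f j)) :
    iSupIndep (jointEig f) := by
  refine iSupIndep.mono (Module.End.independent_iInf_maxGenEigenspace_of_forall_mapsTo f
    fun i j μ => Module.End.mapsTo_maxGenEigenspace_of_comm (hcomm j i) μ) fun χ => ?_
  exact iInf_mono fun i => Module.End.eigenspace_le_maxGenEigenspace

theorem finite_jointEig [FiniteDimensional k V] (f : ι → Module.End k V)
    (hcomm : ∀ i j, Commute (f i) (f j)) : Finite {χ : ι → k // jointEig f χ ≠ ⊥} :=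
  WellFoundedGT.finite_of_iSupIndep
    ((iSupIndep_jointEig f hcomm).comp Subtype.val_injective) fun χ => χ.2

theorem sum_finrank_jointEig [FiniteDimensional k V] (f : ι → Module.End k V)
    (hcomm : ∀ i j, Commute (f i) (f j)) [Fintype {χ : ι → k // jointEig f χ ≠ ⊥}]
    (htop : ⨆ χ, jointEig f χ = ⊤) :
    ∑ χ : {χ : ι → k // jointEig f χ ≠ ⊥}, finrank k (jointEig f χ.1) = finrank k V := by
  classical
  let A : {χ : ι → k // jointEig f χ ≠ ⊥} → Submodule k V := fun χ => jointEig f χ.1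
  have hint : DirectSum.IsInternal A := by
    refine (DirectSum.isInternal_submodule_iff_iSupIndep_and_iSup_eq_top A).mpr
      ⟨(iSupIndep_jointEig f hcomm).comp Subtype.val_injective, ?_⟩
    rw [eq_top_iff, ← htop]
    refine iSup_le fun χ => ?_
    by_cases h : jointEig f χ = ⊥
    · rw [h]; exact bot_le
    · exact le_iSup A ⟨χ, h⟩
  rw [← (LinearEquiv.ofBijective (DirectSum.coeLinearMap A) hint).finrank_eq,
    Module.finrank_directSum]

theorem exists_common_eigen [IsAlgClosed k] [FiniteDimensional k V] [Nontrivial V]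
    (f : ι → Module.End k V) (hcomm : ∀ i j, Commute (f i) (f j)) :
    ∃ χ : ι → k, jointEig f χ ≠ ⊥ := by
  obtain ⟨W, hW0, hWinv, hWmin⟩ : ∃ W : Submodule k V, W ≠ ⊥ ∧ (∀ i, ∀ x ∈ W, f i x ∈ W) ∧
      ∀ U : Submodule k V, U ≤ W → U ≠ ⊥ → (∀ i, ∀ x ∈ U, f i x ∈ U) → U = W := by
    obtain ⟨W, ⟨h1, h2⟩, h3⟩ := (wellFounded_lt (α := Submodule k V)).has_min
      {W : Submodule k V | W ≠ ⊥ ∧ ∀ i, ∀ x ∈ W, f i x ∈ W} ⟨⊤, top_ne_bot, fun _ _ _ => trivial⟩
    exact ⟨W, h1, h2, fun U hU hU0 hUi => hU.eq_or_lt.resolve_right (h3 U ⟨hU0, hUi⟩)⟩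
  have : Nontrivial W := Submodule.nontrivial_iff_ne_bot.mpr hW0
  have hscal : ∀ i, ∃ c : k, ∀ x ∈ W, f i x = c • x := by
    intro i
    obtain ⟨c, hc⟩ := Module.End.exists_eigenvalue ((f i).restrict (hWinv i))
    obtain ⟨x, hx⟩ := hc.exists_hasEigenvector
    refine ⟨c, fun y hy => ?_⟩
    have hU : W ⊓ (f i).eigenspace c = W := by
      refine hWmin _ inf_le_left ?_ ?_
      · refine (Submodule.ne_bot_iff _).mpr ⟨(x : V), ⟨x.2, ?_⟩, fun h => hx.2 (Subtype.ext h)⟩
        rw [SetLike.mem_coe, Module.End.mem_eigenspace_iff]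
        exact congrArg Subtype.val hx.apply_eq_smul
      · rintro j z ⟨hz1, hz2⟩
        refine ⟨hWinv j z hz1, ?_⟩
        rw [SetLike.mem_coe, Module.End.mem_eigenspace_iff] at hz2 ⊢
        rw [← Module.End.mul_apply, (hcomm i j).eq, Module.End.mul_apply, hz2, map_smul]
    exact Module.End.mem_eigenspace_iff.mp (hU.ge hy).2
  choose χ hχ using hscal
  obtain ⟨x, hx, hx0⟩ := (Submodule.ne_bot_iff _).mp hW0
  exact ⟨χ, (Submodule.ne_bot_iff _).mpr ⟨x, mem_jointEig.mpr fun i => hχ i x hx, hx0⟩⟩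

end CfsgLib.ClassLower
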