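import Mathlib
import Cfsg.Agent.Lib.ClassLower.Count

/-!
A solvable permutation group of degree `n` has order at most `4 ^ (n - 1)`.
-/

set_option autoImplicit false
set_option linter.style.haveILetI false

namespace CfsgLib.ClassLower

open Subgroup MulAction

universe u v

theorem pow_log_le {n l : ℕ} (hn : 1 ≤ n) (hl : 2 ^ l ≤ n) : n ^ (l + 1) ≤ 4 ^ (n - 1) := by
  have hl' : l ≤ Nat.log 2 n := Nat.le_log_of_pow_le (by norm_num) hl
  refine (Nat.pow_le_pow_right hn (Nat.add_le_add_right hl' 1)).trans ?_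
  by_cases hs : n < 16
  · interval_cases n <;> decide +kernel
  · have hL : 4 ≤ Nat.log 2 n := Nat.le_log_of_pow_le (by norm_num) (by omega)
    set L := Nat.log 2 n with hLdef
    have h1 : n < 2 ^ (L + 1) := Nat.lt_pow_succ_log_self (by norm_num) n
    have h2 : 2 ^ L ≤ n := Nat.pow_log_le_self 2 (by omega)
    have h3 : ∀ M, 4 ≤ M → (M + 1) * (M + 1) + 2 ≤ 2 * 2 ^ M := by
      intro M hM
      induction M, hM using Nat.le_induction with
      | base => norm_num
      | succ k hk ih => rw [pow_succ]; nlinarith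
    calc n ^ (L + 1) ≤ (2 ^ (L + 1)) ^ (L + 1) := Nat.pow_le_pow_left h1.le _
      _ = 2 ^ ((L + 1) * (L + 1)) := by rw [← pow_mul]
      _ ≤ 2 ^ (2 * (n - 1)) := Nat.pow_le_pow_right (by norm_num) (by
          have := h3 L hL; omega)
      _ = 4 ^ (n - 1) := by rw [pow_mul]; norm_num

theorem exists_normal_abelian {G : Type u} [Group G] [Group.IsSolvable G] [Nontrivial G] :
    ∃ N : Subgroup G, N.Normal ∧ N ≠ ⊥ ∧ ∀ a ∈ N, ∀ b ∈ N, a * b = b * a := by
  classical
  have hex : ∃ n, derivedSeries G n = ⊥ :=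
    Group.IsSolvable.solvable
  have h := Nat.find_spec hex
  obtain ⟨n, hn⟩ : ∃ n, Nat.find hex = n + 1 := Nat.exists_eq_succ_of_ne_zero fun h0 => by
    rw [h0, derivedSeries_zero] at h
    exact top_ne_bot h
  refine ⟨derivedSeries G n, inferInstance, Nat.find_min hex (by omega), fun a ha b hb => ?_⟩
  rw [hn, derivedSeries_succ] at h
  exact (commutatorElement_eq_one_iff_mul_comm.mp
    ((Subgroup.mem_bot).mp (h ▸ Subgroup.commutator_mem_commutator ha hb)))

theorem card_solvable_perm_le_aux (n : ℕ) : ∀ (α : Type u) [Finite α], Nat.card α = n →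
    ∀ T : Subgroup (Equiv.Perm α), Group.IsSolvable T → Nat.card T ≤ 4 ^ (n - 1) := by
  induction n using Nat.strong_induction_on with
  | _ n IH =>
  intro α _ hn T hT
  classical
  rcases subsingleton_or_nontrivial T with hsub | hnt
  · rw [Nat.card_unique]
    exact Nat.one_le_pow _ _ (by norm_num)
  obtain ⟨N, hNn, hN1, hNc⟩ := exists_normal_abelian (G := T)
  obtain ⟨g0, hg0, hg01⟩ : ∃ g ∈ N, g ≠ 1 := by
    by_contra! h
    exact hN1 ((Subgroup.eq_bot_iff_forall N).mpr h)
  obtain ⟨a0, ha0⟩ : ∃ a : α, g0 • a ≠ a := by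
    by_contra! h
    exact hg01 (Subtype.ext (Equiv.ext fun a => h a))
  have : Nonempty α := ⟨a0⟩
  have hn1 : 1 ≤ n := hn ▸ Nat.card_pos
  by_cases htr : ∀ b : α, b ∈ orbit N a0
  · -- transitive abelian normal subgroup
    have hfree : ∀ g ∈ N, g • a0 = a0 → g = 1 := by
      intro g hg h
      refine Subtype.ext (Equiv.ext fun b => ?_)
      obtain ⟨⟨k, hk⟩, rfl⟩ := htr b
      show g • k • a0 = k • a0
      rw [← mul_smul, hNc g hg k hk, mul_smul, h]
    have hNcard : Nat.card N = n := by
      rw [← hn]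
      refine Nat.card_eq_of_bijective (fun g : N => (g : T) • a0) ⟨fun g k h => ?_, fun b => htr b⟩
      have h1 : ((g : T)⁻¹ * k) • a0 = a0 := by
        rw [mul_smul, inv_smul_eq_iff]; exact h.symm
      exact Subtype.ext (inv_mul_eq_one.mp (hfree _ (mul_mem (inv_mem g.2) k.2) h1))
    have hC : centralizer (N : Set T) ≤ N := by
      intro c hc
      obtain ⟨⟨k, hk⟩, hk'⟩ := htr (c • a0)
      have hkc : k • a0 = c • a0 := hk'
      suffices h : c = k by exact h ▸ hk
      refine Subtype.ext (Equiv.ext fun b => ?_)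
      obtain ⟨⟨j, hj⟩, rfl⟩ := htr b
      show c • j • a0 = k • j • a0
      rw [← mul_smul, ← mul_smul, ← mem_centralizer_iff.mp hc j hj, hNc k hk j hj, mul_smul,
        mul_smul, hkc]
    obtain ⟨l, hl1, hl2⟩ := exists_index_centralizer_le (E := N) (Z := ⊥) bot_le bot_le
      (N := n) (e := 0) (fun m c _ => by
        rw [pow_zero, mul_one, ← hNcard]
        exact Nat.card_le_card_of_injective (fun a => (⟨a.1, a.2.1⟩ : N))
          fun a b h => Subtype.ext (congrArg Subtype.val h :))
    simp only [pow_zero, mul_one, card_bot] at hl1 hl2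
    rw [hNcard] at hl1
    calc Nat.card T = Nat.card (centralizer (N : Set T)) * (centralizer (N : Set T)).index :=
          (card_mul_index _).symm
      _ ≤ n * n ^ l := Nat.mul_le_mul (hNcard ▸ card_le_of_le hC) hl2
      _ = n ^ (l + 1) := by ring
      _ ≤ _ := pow_log_le hn1 hl1
  · -- the orbits of the normal subgroup
    push Not at htr
    obtain ⟨b0, hb0⟩ := htr
    let s : Setoid α := orbitRel N α
    let Ω := Quotient s
    have hmap : ∀ (g : T) (a b : α), s.r a b → s.r (g • a) (g • b) := by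
      rintro g a b ⟨⟨k, hk⟩, h⟩
      refine ⟨⟨g * k * g⁻¹, hNn.conj_mem k hk g⟩, ?_⟩
      show (g * k * g⁻¹) • g • b = g • a
      have h' : k • b = a := h
      rw [← mul_smul, inv_mul_cancel_right, mul_smul, h']
    letI : MulAction T Ω :=
      { smul := fun g q => Quotient.map (fun a => g • a) (hmap g) q
        one_smul := fun q => Quotient.inductionOn q fun a => congrArg _ (one_smul T a)
        mul_smul := fun g h q => Quotient.inductionOn q fun a => congrArg _ (mul_smul g h a) }
    let φ : T →* Equiv.Perm Ω := MulAction.toPermHom T Ω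
    let mk : α → Ω := fun a => Quotient.mk s a
    let Fib : Ω → Type u := fun q => {a : α // mk a = q}
    have : Fintype Ω := Fintype.ofFinite _
    have hsum : ∑ q, Nat.card (Fib q) = n := by
      rw [← hn, ← Nat.card_sigma]
      exact Nat.card_congr (Equiv.sigmaFiberEquiv mk)
    have hpos : ∀ q, 1 ≤ Nat.card (Fib q) := fun q => Quotient.inductionOn q fun a =>
      @Nat.card_pos _ ⟨⟨a, rfl⟩⟩ _
    have hg0a : mk (g0 • a0) = mk a0 := Quotient.sound ⟨⟨g0, hg0⟩, rfl⟩
    have h2 : 2 ≤ Nat.card (Fib (mk a0)) :=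
      Finite.one_lt_card_iff_nontrivial.mpr
        ⟨⟨⟨_, rfl⟩, ⟨_, hg0a⟩, fun h => ha0 (congrArg Subtype.val h).symm⟩⟩
    have hΩpos : 1 ≤ Nat.card Ω := @Nat.card_pos _ ⟨mk a0⟩ _
    have hΩn : Nat.card Ω < n := by
      rw [← hsum, Nat.card_eq_fintype_card, ← Finset.card_univ, Finset.card_eq_sum_ones]
      exact Finset.sum_lt_sum (fun q _ => hpos q) ⟨mk a0, Finset.mem_univ _, h2⟩
    have hfib : ∀ q, Nat.card (Fib q) < n := by
      intro q
      have hne : mk a0 ≠ mk b0 := fun h => hb0 (Setoid.symm (Quotient.exact h))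
      obtain ⟨q', hq'⟩ : ∃ q', q' ≠ q := by
        by_cases h : q = mk a0
        · exact ⟨mk b0, h ▸ hne.symm⟩
        · exact ⟨mk a0, Ne.symm h⟩
      rw [← hsum, ← Finset.add_sum_erase _ _ (Finset.mem_univ q)]
      refine Nat.lt_add_of_pos_right (Finset.sum_pos' (fun _ _ => Nat.zero_le _) ⟨q', ?_, hpos q'⟩)
      simp [hq']
    have hK : ∀ (k : φ.ker) (q : Ω) (a : α), mk a = q → mk ((k : T) • a) = q := by
      intro k q a ha
      subst ha
      exact Equiv.Perm.ext_iff.mp (MonoidHom.mem_ker.mp k.2) (mk a)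
    let actF : ∀ q, MulAction φ.ker (Fib q) := fun q =>
      { smul := fun k a => ⟨(k : T) • a.1, hK k q a.1 a.2⟩
        one_smul := fun a => Subtype.ext (one_smul T a.1)
        mul_smul := fun k j a => Subtype.ext (mul_smul (k : T) (j : T) a.1) }
    let ψ : ∀ q, φ.ker →* Equiv.Perm (Fib q) := fun q => MulAction.toPermHom φ.ker (Fib q)
    have hKle : Nat.card φ.ker ≤ ∏ q, 4 ^ (Nat.card (Fib q) - 1) := by
      refine le_trans ?_ (Finset.prod_le_prod' (f := fun q => Nat.card (ψ q).range) fun q _ => ?_)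
      · rw [← Nat.card_pi]
        refine Nat.card_le_card_of_injective (fun k q => (ψ q).rangeRestrict k) fun k j h => ?_
        refine Subtype.ext (Subtype.ext (Equiv.ext fun a => ?_))
        exact congrArg Subtype.val
          (Equiv.Perm.ext_iff.mp (congrArg Subtype.val (congrFun h (mk a))) ⟨a, rfl⟩)
      · exact IH _ (hfib q) (Fib q) rfl _
          (Group.isSolvable_of_surjective (MonoidHom.rangeRestrict_surjective (ψ q)))
    have hrange : Nat.card φ.range ≤ 4 ^ (Nat.card Ω - 1) :=
      IH _ hΩn Ω rfl _ (Group.isSolvable_of_surjective (MonoidHom.rangeRestrict_surjective φ))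
    calc Nat.card T = Nat.card φ.ker * Nat.card φ.range := by
          rw [← Subgroup.index_ker, card_mul_index]
      _ ≤ 4 ^ (∑ q, (Nat.card (Fib q) - 1)) * 4 ^ (Nat.card Ω - 1) :=
          Nat.mul_le_mul (hKle.trans (Finset.prod_pow_eq_pow_sum _ _ _).le) hrange
      _ = 4 ^ (n - 1) := by
          rw [← pow_add]
          congr 1
          have hs : ∑ q, (Nat.card (Fib q) - 1) + Nat.card Ω = n := by
            conv_rhs => rw [← hsum]
            rw [Nat.card_eq_fintype_card (α := Ω), ← Finset.card_univ, Finset.card_eq_sum_ones,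
              ← Finset.sum_add_distrib]
            exact Finset.sum_congr rfl fun q _ => Nat.sub_add_cancel (hpos q)
          omega

/-- A finite solvable group acting faithfully on a set of size `n` has order at most
`4 ^ (n - 1)`. -/
theorem card_le_of_solvable_action {T : Type v} [Group T] [Group.IsSolvable T] {α : Type u}
    [Finite α] (φ : T →* Equiv.Perm α) (hφ : Function.Injective φ) :
    Nat.card T ≤ 4 ^ (Nat.card α - 1) := by
  have h := card_solvable_perm_le_aux (Nat.card α) α rfl φ.range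
    (Group.isSolvable_of_surjective (MonoidHom.rangeRestrict_surjective φ))
  rwa [← Nat.card_congr (MonoidHom.ofInjective hφ).toEquiv] at h

end CfsgLib.ClassLower
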