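import Mathlib
import Cfsg.Agent.Lib.ClassLower.Ratio
import Cfsg.Agent.Lib.ClassLower.Perm
import Cfsg.Agent.Lib.ClassLower.Eig

/-!
Irreducible solvable groups with a non-scalar abelian normal subgroup.
-/

set_option autoImplicit false
set_option linter.style.haveILetI false

namespace CfsgLib.ClassLower

open Module

universe u v w

/-- The exponent of two in the bound in dimension `d`. -/
def expBound (d : ℕ) : ℕ := if d ≤ 1 then 0 else 6 * d - 4

theorem expBound_le (d : ℕ) (_hd : 1 ≤ d) : expBound d ≤ 6 * d - 4 := by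
  unfold expBound; split <;> omega

theorem expBound_of_two_le {d : ℕ} (hd : 2 ≤ d) : expBound d = 6 * d - 4 := by
  unfold expBound; rw [if_neg (by omega)]

variable {k : Type w} [Field k]

/-- Irreducibility. -/
def IsIrr {Y : Type u} [Group Y] {V : Type v} [AddCommGroup V] [Module k V]
    (ρ : Y →* Module.End k V) : Prop :=
  Nontrivial V ∧ ∀ W : Submodule k V, (∀ g, ∀ x ∈ W, ρ g x ∈ W) → W = ⊥ ∨ W = ⊤

/-- The bound in dimensions less than `d`. -/
def BoundBelow (k : Type w) [Field k] (d : ℕ) : Prop :=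
  ∀ (Y : Type u) [Group Y] [Finite Y] [Group.IsSolvable Y] (V : Type v) [AddCommGroup V]
    [Module k V] [FiniteDimensional k V] (ρ : Y →* Module.End k V),
    Function.Injective ρ → IsIrr ρ → finrank k V < d → RB Y (2 ^ expBound (finrank k V))

variable {Y : Type u} [Group Y] {V : Type v} [AddCommGroup V] [Module k V]

theorem rho_cancel (ρ : Y →* Module.End k V) (g : Y) (x : V) : ρ g (ρ g⁻¹ x) = x := by
  rw [← Module.End.mul_apply, ← map_mul, mul_inv_cancel, map_one, Module.End.one_apply]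

/-- The action of a stabilizer on a summand of an independent family permuted by an irreducible
group is irreducible. -/
theorem block_irr {ι : Type*} (p : ι → Submodule k V) (hind : iSupIndep p) (ρ : Y →* Module.End k V)
    (hirr : IsIrr ρ) (sm : Y → ι → ι) (hmove : ∀ g j, ∀ x ∈ p j, ρ g x ∈ p (sm g j)) (i : ι)
    (W : Submodule k V) (hWi : W ≤ p i) (hW0 : W ≠ ⊥)
    (hW : ∀ g, sm g i = i → ∀ x ∈ W, ρ g x ∈ W) : W = p i := by
  let T : Submodule k V := ⨆ g : Y, W.map (ρ g)
  have hT : T = ⊤ := by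
    refine (hirr.2 T fun g x hx => ?_).resolve_left fun h => hW0 ?_
    · refine Submodule.iSup_induction (motive := fun y => ρ g y ∈ T) _ hx ?_ (by simp) ?_
      · rintro h' _ ⟨y, hy, rfl⟩
        refine Submodule.mem_iSup_of_mem (g * h') ⟨y, hy, ?_⟩
        rw [map_mul, Module.End.mul_apply]
      · intro y z hy hz
        rw [map_add]
        exact add_mem hy hz
    · rw [eq_bot_iff]
      intro y hy
      exact h.le (Submodule.mem_iSup_of_mem (1 : Y) ⟨y, hy, by rw [map_one, Module.End.one_apply]⟩)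
  have hTle : T ≤ W ⊔ ⨆ (j : ι) (_ : j ≠ i), p j := by
    refine iSup_le fun g => ?_
    rintro _ ⟨y, hy, rfl⟩
    by_cases hg : sm g i = i
    · exact Submodule.mem_sup_left (hW g hg y hy)
    · refine Submodule.mem_sup_right ?_
      exact (le_iSup₂_of_le (sm g i) hg le_rfl : p (sm g i) ≤ _) (hmove g i y (hWi hy))
  refine le_antisymm hWi fun x hx => ?_
  obtain ⟨y, hy, z, hz, hyz⟩ := Submodule.mem_sup.mp (hTle (hT.ge (Submodule.mem_top (x := x))))
  have hz' : z ∈ p i := by
    rw [show z = x - y by rw [← hyz]; abel]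
    exact sub_mem hx (hWi hy)
  rw [Submodule.disjoint_def.mp (hind i) z hz' hz, add_zero] at hyz
  exact hyz ▸ hy

/-- The bound for the group induced on an invariant subspace with irreducible action. -/
theorem exists_induced_bound [Finite Y] [Group.IsSolvable Y] [FiniteDimensional k V] {d : ℕ}
    (hIH : BoundBelow.{u, v, w} k d) (ρ : Y →* Module.End k V) (S : Subgroup Y)
    (E : Submodule k V) (hE0 : E ≠ ⊥) (hEd : finrank k E < d)
    (hinv : ∀ g ∈ S, ∀ x ∈ E, ρ g x ∈ E)
    (hirrE : ∀ W : Submodule k V, W ≤ E → W ≠ ⊥ → (∀ g ∈ S, ∀ x ∈ W, ρ g x ∈ W) → W = E)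
    (K : Subgroup Y) (hKS : K ≤ S) :
    ∃ (Q : Type u) (_ : Group Q) (_ : Finite Q) (τ : K →* Q),
      RB Q (2 ^ expBound (finrank k E)) ∧ ∀ g, τ g = 1 → ∀ x ∈ E, ρ (g : Y) x = x := by
  let σ : S →* Module.End k E :=
    { toFun := fun g => (ρ (g : Y)).restrict (hinv g g.2)
      map_one' := LinearMap.ext fun x => Subtype.ext (by simp)
      map_mul' := fun g h => LinearMap.ext fun x => Subtype.ext (by simp) }
  have happ : ∀ (g : S) (x : E), (σ g x : V) = ρ (g : Y) x := fun g x => rfl
  clear_value σ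
  obtain ⟨σb, hσb, hinj⟩ : ∃ σb : S ⧸ σ.ker →* Module.End k E,
      (∀ g : S, σb (QuotientGroup.mk g) = σ g) ∧ Function.Injective σb := by
    refine ⟨QuotientGroup.lift σ.ker σ le_rfl, fun g => rfl, ?_⟩
    rw [injective_iff_map_eq_one]
    intro q hq
    induction q using QuotientGroup.induction_on with | _ g =>
    exact (QuotientGroup.eq_one_iff _).mpr (MonoidHom.mem_ker.mpr hq)
  have hirrb : IsIrr σb := by
    refine ⟨Submodule.nontrivial_iff_ne_bot.mpr hE0, fun W hW => ?_⟩
    by_cases hW0 : W = ⊥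
    · exact Or.inl hW0
    right
    have h1 : W.map E.subtype = E := by
      refine hirrE _ (Submodule.map_subtype_le _ _)
        (fun h => hW0 (Submodule.map_injective_of_injective Subtype.val_injective
          (h.trans (Submodule.map_bot _).symm))) ?_
      rintro g hg _ ⟨x, hx, rfl⟩
      refine ⟨σ ⟨g, hg⟩ x, ?_, happ _ _⟩
      rw [← hσb]
      exact hW _ x hx
    exact Submodule.map_injective_of_injective Subtype.val_injective
      (h1.trans (Submodule.map_subtype_top E).symm)
  refine ⟨S ⧸ σ.ker, inferInstance, inferInstance,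
    (QuotientGroup.mk' σ.ker).comp (Subgroup.inclusion hKS),
    hIH (S ⧸ σ.ker) E σb hinj hirrb hEd, fun g hg x hx => ?_⟩
  have h1 : σ (Subgroup.inclusion hKS g) = 1 := (QuotientGroup.eq_one_iff _).mp hg
  have h2 := happ (Subgroup.inclusion hKS g) ⟨x, hx⟩
  rw [h1] at h2
  exact h2.symm

theorem monomial_case [IsAlgClosed k] [Finite Y] [Group.IsSolvable Y] [FiniteDimensional k V]
    (ρ : Y →* Module.End k V) (hinj : Function.Injective ρ) (hirr : IsIrr ρ)
    (hIH : BoundBelow.{u, v, w} k (finrank k V)) (N : Subgroup Y) (hNn : N.Normal)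
    (hNc : ∀ a ∈ N, ∀ b ∈ N, a * b = b * a) (hns : ∃ g ∈ N, ∀ c : k, ρ g ≠ c • 1) :
    RB Y (2 ^ expBound (finrank k V)) := by
  classical
  have : Nontrivial V := hirr.1
  let f : N → Module.End k V := fun g => ρ g
  have hcomm : ∀ i j, Commute (f i) (f j) := fun i j =>
    (show Commute (i : Y) j from hNc i i.2 j j.2).map ρ
  let sm : Y → (N → k) → (N → k) := fun g χ n => χ ⟨g⁻¹ * n * g, by
    simpa using hNn.conj_mem n n.2 g⁻¹⟩
  have hsm1 : ∀ χ, sm 1 χ = χ := fun χ => funext fun n => congrArg χ (Subtype.ext (by simp))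
  have hsmm : ∀ g h χ, sm (g * h) χ = sm g (sm h χ) := fun g h χ =>
    funext fun n => congrArg χ (Subtype.ext (by simp [mul_assoc]))
  have hmove : ∀ g χ x, x ∈ jointEig f χ → ρ g x ∈ jointEig f (sm g χ) := by
    intro g χ x hx
    rw [mem_jointEig]
    intro n
    have hn := mem_jointEig.mp hx ⟨g⁻¹ * n * g, by simpa using hNn.conj_mem n n.2 g⁻¹⟩
    show ρ n (ρ g x) = sm g χ n • ρ g x
    rw [← Module.End.mul_apply, ← map_mul,
      show (n : Y) * g = g * (g⁻¹ * n * g) by group, map_mul, Module.End.mul_apply]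
    rw [show ρ (g⁻¹ * n * g) x = sm g χ n • x from hn, map_smul]
  have hindep := iSupIndep_jointEig f hcomm
  have htop : ⨆ χ, jointEig f χ = ⊤ := by
    refine (hirr.2 _ fun g x hx => ?_).resolve_left fun h => ?_
    · refine Submodule.iSup_induction (motive := fun y => ρ g y ∈ ⨆ χ, jointEig f χ) _ hx
        (fun χ y hy => Submodule.mem_iSup_of_mem _ (hmove g χ y hy)) (by simp) ?_
      intro y z hy hz
      rw [map_add]
      exact add_mem hy hz
    · obtain ⟨χ, hχ⟩ := exists_common_eigen f hcomm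
      exact hχ (eq_bot_iff.mpr ((le_iSup _ χ).trans h.le))
  let ι := {χ : N → k // jointEig f χ ≠ ⊥}
  have : Finite ι := finite_jointEig f hcomm
  have : Fintype ι := Fintype.ofFinite ι
  have hsm_ne : ∀ g χ, jointEig f χ ≠ ⊥ → jointEig f (sm g χ) ≠ ⊥ := by
    intro g χ hχ
    obtain ⟨x, hx, hx0⟩ := (Submodule.ne_bot_iff _).mp hχ
    refine (Submodule.ne_bot_iff _).mpr ⟨_, hmove g χ x hx, fun h => hx0 ?_⟩
    have := congrArg (ρ g⁻¹) h
    rwa [map_zero, ← Module.End.mul_apply, ← map_mul, inv_mul_cancel, map_one,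
      Module.End.one_apply] at this
  let act : Y →* Equiv.Perm ι :=
    { toFun := fun g =>
        { toFun := fun χ => ⟨sm g χ.1, hsm_ne g _ χ.2⟩
          invFun := fun χ => ⟨sm g⁻¹ χ.1, hsm_ne g⁻¹ _ χ.2⟩
          left_inv := fun χ => Subtype.ext (by simp [← hsmm, hsm1])
          right_inv := fun χ => Subtype.ext (by simp [← hsmm, hsm1]) }
      map_one' := Equiv.ext fun χ => Subtype.ext (hsm1 χ.1)
      map_mul' := fun g h => Equiv.ext fun χ => Subtype.ext (hsmm g h χ.1) }
  have hsum : ∑ χ : ι, finrank k (jointEig f χ.1) = finrank k V :=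
    sum_finrank_jointEig f hcomm htop
  have hpos : ∀ χ : ι, 1 ≤ finrank k (jointEig f χ.1) := fun χ =>
    Submodule.one_le_finrank_iff.mpr χ.2
  -- there are at least two eigenspaces
  have hlt : ∀ χ : ι, finrank k (jointEig f χ.1) < finrank k V := by
    intro χ
    refine Submodule.finrank_lt fun h => ?_
    obtain ⟨g, hg, hgs⟩ := hns
    refine hgs (χ.1 ⟨g, hg⟩) (LinearMap.ext fun x => ?_)
    exact mem_jointEig.mp (h.ge (Submodule.mem_top (x := x))) ⟨g, hg⟩
  have hd2 : 2 ≤ finrank k V := by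
    obtain ⟨χ, hχ⟩ := exists_common_eigen f hcomm
    have := hlt ⟨χ, hχ⟩
    have := hpos ⟨χ, hχ⟩
    omega
  -- the bound on each eigenspace
  have hblock : ∀ χ : ι, ∃ (Q : Type u) (_ : Group Q) (_ : Finite Q) (τ : act.ker →* Q),
      RB Q (2 ^ (6 * finrank k (jointEig f χ.1) - 4)) ∧
      ∀ g, τ g = 1 → ∀ x ∈ jointEig f χ.1, ρ (g : Y) x = x := by
    intro χ
    let S : Subgroup Y :=
      { carrier := {g | sm g χ.1 = χ.1}
        one_mem' := hsm1 _
        mul_mem' := fun {a b} ha hb => by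
          show sm (a * b) χ.1 = χ.1
          rw [hsmm, hb, ha]
        inv_mem' := fun {a} ha => by
          show sm a⁻¹ χ.1 = χ.1
          conv_lhs => rw [← (show sm a χ.1 = χ.1 from ha), ← hsmm, inv_mul_cancel, hsm1] }
    have hker : act.ker ≤ S := fun g hg =>
      congrArg Subtype.val (Equiv.Perm.ext_iff.mp (MonoidHom.mem_ker.mp hg) χ)
    obtain ⟨Q, i1, i2, τ, h1, h2⟩ := exists_induced_bound hIH ρ S (jointEig f χ.1) χ.2 (hlt χ)
      (fun g hg x hx => (hg : sm g χ.1 = χ.1) ▸ hmove g χ.1 x hx)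
      (fun W hWE hW0 hW => block_irr (jointEig f) hindep ρ hirr sm hmove χ.1 W hWE hW0
        fun g hg => hW g hg) act.ker hker
    exact ⟨Q, i1, i2, τ, h1.le (Nat.pow_le_pow_right (by norm_num) (expBound_le _ (hpos χ))), h2⟩
  choose Q instG instF τ hRB hτ using hblock
  have hK : RB act.ker (∏ χ : ι, 2 ^ (6 * finrank k (jointEig f χ.1) - 4)) := by
    refine RB.of_family τ (fun g hg => ?_) hRB
    refine Subtype.ext (hinj ?_)
    rw [OneMemClass.coe_one, map_one]
    refine LinearMap.ext fun x => ?_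
    refine Submodule.iSup_induction (motive := fun y => ρ (g : Y) y = y) _
      (htop.ge (Submodule.mem_top (x := x))) (fun χ y hy => ?_) (map_zero _) ?_
    · by_cases hχ : jointEig f χ = ⊥
      · rw [hχ, Submodule.mem_bot] at hy; rw [hy, map_zero]
      · exact hτ ⟨χ, hχ⟩ g (hg _) y hy
    · intro y z hy hz
      rw [map_add, hy, hz]
  have hidx : act.ker.index ≤ 4 ^ (Nat.card ι - 1) := by
    rw [Subgroup.index_ker]
    have : Group.IsSolvable act.range :=
      Group.isSolvable_of_surjective (MonoidHom.rangeRestrict_surjective act)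
    exact card_le_of_solvable_action act.range.subtype Subtype.val_injective
  refine (RB.of_subgroup act.ker hK).le ?_
  rw [Finset.prod_pow_eq_pow_sum, expBound_of_two_le hd2]
  calc act.ker.index ^ 2 * 2 ^ (∑ χ : ι, (6 * finrank k (jointEig f χ.1) - 4))
      ≤ (4 ^ (Nat.card ι - 1)) ^ 2 * 2 ^ (∑ χ : ι, (6 * finrank k (jointEig f χ.1) - 4)) :=
        Nat.mul_le_mul_right _ (Nat.pow_le_pow_left hidx 2)
    _ = 2 ^ (4 * (Nat.card ι - 1) + ∑ χ : ι, (6 * finrank k (jointEig f χ.1) - 4)) := by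
        rw [show (4 : ℕ) = 2 ^ 2 by rfl, ← pow_mul, ← pow_mul, ← pow_add]
        congr 1
        ring
    _ = 2 ^ (6 * finrank k V - 4) := by
        congr 1
        have h6 : ∑ χ : ι, (6 * finrank k (jointEig f χ.1) - 4) + 4 * Nat.card ι =
            6 * finrank k V := by
          rw [Nat.card_eq_fintype_card, ← Finset.card_univ, Finset.card_eq_sum_ones,
            Finset.mul_sum, ← Finset.sum_add_distrib, ← hsum, Finset.mul_sum]
          exact Finset.sum_congr rfl fun χ _ => by have := hpos χ; omega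
        have : 1 ≤ Nat.card ι := by
          obtain ⟨χ, hχ⟩ := exists_common_eigen f hcomm
          exact @Nat.card_pos _ ⟨⟨χ, hχ⟩⟩ _
        omega

end CfsgLib.ClassLower
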