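import Mathlib
import Cfsg.Agent.Lib.ClassLower.Monomial

/-!
Irreducible solvable groups in which every abelian normal subgroup consists of scalars.
-/

set_option autoImplicit false
set_option linter.style.haveILetI false

namespace CfsgLib.ClassLower

open Module
open scoped commutatorElement

universe u v w

variable {k : Type w} [Field k]

theorem pow_le_expBound {d N l : ℕ} (hd : 1 ≤ d) (hN : 1 ≤ N) (hN2 : N ≤ d * d)
    (hl : 2 ^ l ≤ N) : N ^ (l + 1) ≤ 2 ^ expBound d := by
  have hl' : l ≤ Nat.log 2 (d * d) := Nat.le_log_of_pow_le (by norm_num) (hl.trans hN2)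
  refine (Nat.pow_le_pow_left hN2 _).trans ((Nat.pow_le_pow_right (by omega)
    (Nat.add_le_add_right hl' 1)).trans ?_)
  clear hl hl' hN hN2
  by_cases hs : d < 32
  · interval_cases d <;> decide +kernel
  · have h5 : 5 ≤ Nat.log 2 d := Nat.le_log_of_pow_le (by norm_num) (by omega)
    set L := Nat.log 2 d with hLdef
    have h1 : d < 2 ^ (L + 1) := Nat.lt_pow_succ_log_self (by norm_num) d
    have h2 : 2 ^ L ≤ d := Nat.pow_log_le_self 2 (by omega)
    have hdd : d * d < 2 ^ (2 * L + 2) := by
      rw [show 2 * L + 2 = (L + 1) + (L + 1) by ring, pow_add]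
      exact Nat.mul_lt_mul'' h1 h1
    have hlog : Nat.log 2 (d * d) < 2 * L + 2 := Nat.log_lt_of_lt_pow (by positivity) hdd
    have h3 : ∀ M, 5 ≤ M → (2 * M + 2) * (2 * M + 2) + 4 ≤ 6 * 2 ^ M := by
      intro M hM
      induction M, hM using Nat.le_induction with
      | base => norm_num
      | succ j hj ih => rw [pow_succ]; nlinarith
    rw [expBound_of_two_le (by omega)]
    calc (d * d) ^ (Nat.log 2 (d * d) + 1) ≤ (2 ^ (2 * L + 2)) ^ (2 * L + 2) :=
          (Nat.pow_le_pow_left hdd.le _).trans (Nat.pow_le_pow_right (Nat.two_pow_pos _) hlog)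
      _ = 2 ^ ((2 * L + 2) * (2 * L + 2)) := by rw [← pow_mul]
      _ ≤ 2 ^ (6 * d - 4) := Nat.pow_le_pow_right (by norm_num) (by
          have := h3 L h5; omega)

variable {Y : Type u} [Group Y] {V : Type v} [AddCommGroup V] [Module k V]

/-- Conjugation by `ρ g` on endomorphisms. -/
def conjL (ρ : Y →* Module.End k V) (g : Y) : Module.End k (Module.End k V) :=
  LinearMap.mulLeft k (ρ g) * LinearMap.mulRight k (ρ g⁻¹)

theorem conjL_apply (ρ : Y →* Module.End k V) (g : Y) (X : Module.End k V) :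
    conjL ρ g X = ρ g * X * ρ g⁻¹ := by
  simp [conjL, mul_assoc]

theorem primitive_case [Finite Y] [Group.IsSolvable Y] [FiniteDimensional k V]
    (ρ : Y →* Module.End k V) (hinj : Function.Injective ρ) [Nontrivial V]
    (hscal : ∀ A : Subgroup Y, A.Normal → (∀ a ∈ A, ∀ b ∈ A, a * b = b * a) →
      ∀ g ∈ A, ∃ c : k, ρ g = c • 1) :
    RB Y (2 ^ expBound (finrank k V)) := by
  classical
  have hd : 1 ≤ finrank k V := Module.finrank_pos
  let Z : Subgroup Y :=
    { carrier := {g | ∃ c : k, ρ g = c • 1}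
      one_mem' := ⟨1, by simp⟩
      mul_mem' := fun {a b} ⟨c, hc⟩ ⟨e, he⟩ => ⟨c * e, by
        rw [map_mul, hc, he, smul_mul_smul_comm, one_mul]⟩
      inv_mem' := fun {a} ⟨c, hc⟩ => ⟨c⁻¹, by
        have h : ρ a * ρ a⁻¹ = 1 := by rw [← map_mul, mul_inv_cancel, map_one]
        rw [hc, smul_mul_assoc, one_mul] at h
        have hc0 : c ≠ 0 := by
          rintro rfl
          rw [zero_smul] at h
          exact zero_ne_one h
        rw [← h, inv_smul_smul₀ hc0]⟩ }
  have hZc : Z ≤ Subgroup.center Y := fun z ⟨c, hc⟩ => Subgroup.mem_center_iff.mpr fun g =>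
    hinj (by rw [map_mul, map_mul, hc, smul_mul_assoc, mul_smul_comm, one_mul, mul_one])
  have hZn : Z.Normal := ⟨fun z hz g => by
    rw [Subgroup.mem_center_iff.mp (hZc hz) g, mul_inv_cancel_right]; exact hz⟩
  -- the largest normal subgroup of class two modulo the scalars
  obtain ⟨E, ⟨hEn, hZE, hEE⟩, hEmax⟩ := Set.exists_max_image
    {E : Subgroup Y | E.Normal ∧ Z ≤ E ∧ ⁅E, E⁆ ≤ Z} (fun E => Nat.card E) (Set.toFinite _)
    ⟨Z, hZn, le_rfl, (Subgroup.commutator_le).mpr fun a ha b hb => by
      rw [commutatorElement_eq_one_iff_mul_comm.mpr (Subgroup.mem_center_iff.mp (hZc ha) b).symm]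
      exact one_mem _⟩
  have := hEn
  -- it contains its centralizer modulo the scalars
  have hCE : Subgroup.centralizer (E : Set Y) ≤ Z := by
    let D : ℕ → Subgroup Y := fun n => Nat.rec (Subgroup.centralizer (E : Set Y)) (fun _ H => ⁅H, H⁆) n
    have hDn : ∀ n, (D n).Normal := by
      intro n
      induction n with
      | zero => exact Subgroup.normal_centralizer
      | succ n ih => exact @Subgroup.commutator_normal _ _ (D n) (D n) ih ih
    have hDd : ∀ n, D n ≤ derivedSeries Y n := by
      intro n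
      induction n with
      | zero => exact le_top
      | succ n ih => exact Subgroup.commutator_mono ih ih
    have hD0 : ∀ n, D n ≤ Subgroup.centralizer (E : Set Y) := by
      intro n
      induction n with
      | zero => exact le_rfl
      | succ n ih =>
        have := hDn n
        exact (Subgroup.commutator_le_self (D n)).trans ih
    obtain ⟨m, hm⟩ := Group.IsSolvable.solvable (G := Y)
    suffices h : ∀ j, j ≤ m → D (m - j) ≤ Z by
      have h0 := h m le_rfl
      rw [Nat.sub_self] at h0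
      exact h0
    intro j
    induction j with
    | zero => exact fun _ => le_trans (hDd m) (hm.le.trans bot_le)
    | succ j ih =>
      intro hj
      obtain ⟨n, hn⟩ : ∃ n, n = m - (j + 1) := ⟨_, rfl⟩
      have hnext : D (n + 1) ≤ Z := by
        have := ih (by omega)
        rwa [show m - j = n + 1 by omega] at this
      rw [← hn]
      have hsup : E ⊔ D n = E := by
        have := hDn n
        refine le_antisymm ?_ le_sup_left
        have hmem : (E ⊔ D n).Normal ∧ Z ≤ E ⊔ D n ∧ ⁅E ⊔ D n, E ⊔ D n⁆ ≤ Z := by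
          refine ⟨@Subgroup.sup_normal _ _ E (D n) hEn this, hZE.trans le_sup_left, Subgroup.commutator_le.mpr ?_⟩
          intro x hx y hy
          obtain ⟨e, he, a, ha, rfl⟩ := (Subgroup.mem_sup_of_normal_right (ht := this)).mp hx
          obtain ⟨e', he', a', ha', rfl⟩ := (Subgroup.mem_sup_of_normal_right (ht := this)).mp hy
          have c1 : Commute a e' := (Subgroup.mem_centralizer_iff.mp (hD0 n ha) e' he').symm
          have c2 : Commute a' e := (Subgroup.mem_centralizer_iff.mp (hD0 n ha') e he).symm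
          have key : ⁅e * a, e' * a'⁆ = ⁅e, e'⁆ * ⁅a, a'⁆ := by
            have d1 : Commute a⁻¹ e' := c1.inv_left
            have d2 : Commute a'⁻¹ e := c2.inv_left
            have c3 : Commute (a * a' * a⁻¹ * a'⁻¹) e'⁻¹ := by
              have := hD0 n (Subgroup.mul_mem _ (Subgroup.mul_mem _ (Subgroup.mul_mem _ ha ha')
                (inv_mem ha)) (inv_mem ha'))
              exact (Subgroup.mem_centralizer_iff.mp this e'⁻¹ (inv_mem he')).symm
            have c4 : Commute (a * a' * a⁻¹) e⁻¹ := by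
              have := hD0 n (Subgroup.mul_mem _ (Subgroup.mul_mem _ ha ha') (inv_mem ha))
              exact (Subgroup.mem_centralizer_iff.mp this e⁻¹ (inv_mem he)).symm
            calc ⁅e * a, e' * a'⁆ = e * (a * e') * a' * a⁻¹ * e⁻¹ * (a'⁻¹ * e'⁻¹) := by group
              _ = e * (e' * a) * a' * a⁻¹ * e⁻¹ * (a'⁻¹ * e'⁻¹) := by rw [c1.eq]
              _ = e * e' * ((a * a' * a⁻¹) * e⁻¹) * (a'⁻¹ * e'⁻¹) := by group
              _ = e * e' * (e⁻¹ * (a * a' * a⁻¹)) * (a'⁻¹ * e'⁻¹) := by rw [c4.eq]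
              _ = e * e' * e⁻¹ * ((a * a' * a⁻¹ * a'⁻¹) * e'⁻¹) := by group
              _ = e * e' * e⁻¹ * (e'⁻¹ * (a * a' * a⁻¹ * a'⁻¹)) := by rw [c3.eq]
              _ = ⁅e, e'⁆ * ⁅a, a'⁆ := by group
          rw [key]
          exact mul_mem (hEE (Subgroup.commutator_mem_commutator he he'))
            (hnext (Subgroup.commutator_mem_commutator ha ha'))
        exact (Subgroup.eq_of_le_of_card_ge le_sup_left (hEmax _ hmem)).ge
      intro x hx
      have hab : ∀ a ∈ Subgroup.centralizer (E : Set Y) ⊓ E,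
          ∀ b ∈ Subgroup.centralizer (E : Set Y) ⊓ E, a * b = b * a := fun a ha b hb =>
        Subgroup.mem_centralizer_iff.mp hb.1 a ha.2
      exact hscal _ inferInstance hab x ⟨hD0 n hx, hsup.le (Subgroup.mem_sup_right hx)⟩
  -- the cosets give independent endomorphisms
  let R := E ⧸ Z.subgroupOf E
  have hRN : Nat.card R ≤ finrank k V * finrank k V := by
    let f : E → Module.End k (Module.End k V) := fun e => conjL ρ (e : Y)
    have hcomm : ∀ i j, Commute (f i) (f j) := by
      intro i j
      obtain ⟨c, hc⟩ := hEE (Subgroup.commutator_mem_commutator i.2 j.2)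
      refine LinearMap.ext fun X => ?_
      show conjL ρ (i : Y) (conjL ρ (j : Y) X) = conjL ρ (j : Y) (conjL ρ (i : Y) X)
      simp only [conjL_apply]
      have e1 : ρ i * ρ j = c • (ρ j * ρ i) := by
        rw [← map_mul, ← map_mul, ← one_mul (ρ ((j : Y) * i)), ← smul_mul_assoc, ← hc, ← map_mul]
        congr 1
        group
      have e2 : ρ (j : Y)⁻¹ * ρ (i : Y)⁻¹ * c • 1 = ρ (i : Y)⁻¹ * ρ (j : Y)⁻¹ := by
        rw [← hc, ← map_mul, ← map_mul, ← map_mul]
        congr 1
        group
      calc ρ i * (ρ j * X * ρ (j : Y)⁻¹) * ρ (i : Y)⁻¹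
          = (ρ i * ρ j) * X * (ρ (j : Y)⁻¹ * ρ (i : Y)⁻¹) := by simp only [mul_assoc]
        _ = (ρ j * ρ i) * X * (ρ (j : Y)⁻¹ * ρ (i : Y)⁻¹ * c • 1) := by
            rw [e1, smul_mul_assoc, smul_mul_assoc, mul_smul_comm c (ρ (j : Y)⁻¹ * ρ (i : Y)⁻¹),
              mul_one, mul_smul_comm]
        _ = ρ j * (ρ i * X * ρ (i : Y)⁻¹) * ρ (j : Y)⁻¹ := by
            rw [e2]; simp only [mul_assoc]
    have hsc : ∀ (e x : E), ∃ c : k, f e (ρ (x : Y)) = c • ρ (x : Y) := by
      intro e x
      obtain ⟨c, hc⟩ := hEE (Subgroup.commutator_mem_commutator e.2 x.2)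
      refine ⟨c, ?_⟩
      show conjL ρ (e : Y) (ρ (x : Y)) = _
      rw [conjL_apply, ← map_mul, ← map_mul, ← one_mul (ρ (x : Y)), ← smul_mul_assoc, ← hc,
        ← map_mul]
      congr 1
      group
    choose c hc using hsc
    let χ : R → E → k := fun q e => c e q.out
    have hmem : ∀ q : R, ρ ((q.out : E) : Y) ∈ jointEig f (χ q) := fun q =>
      mem_jointEig.mpr fun e => hc e q.out
    have hne : ∀ q : R, ρ ((q.out : E) : Y) ≠ 0 := fun q h => by
      have h1 : (1 : Module.End k V) = 0 := by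
        rw [← map_one ρ, ← mul_inv_cancel ((q.out : E) : Y), map_mul, h, zero_mul]
      exact one_ne_zero h1
    have hχ : Function.Injective χ := by
      intro q q' h
      rw [← QuotientGroup.out_eq' q, ← QuotientGroup.out_eq' q', QuotientGroup.eq,
        Subgroup.mem_subgroupOf]
      set x := q.out
      set y := q'.out
      refine hCE (Subgroup.mem_centralizer_iff.mpr fun e he => ?_)
      have h1 : c ⟨e, he⟩ x = c ⟨e, he⟩ y := congrFun h ⟨e, he⟩
      have hx := hc ⟨e, he⟩ x
      have hy := hc ⟨e, he⟩ y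
      rw [← h1] at hy
      generalize c ⟨e, he⟩ x = a at hx hy
      replace hx : ρ e * ρ (x : Y) = a • (ρ (x : Y) * ρ e) := by
        have : ρ e * ρ (x : Y) * ρ e⁻¹ = a • ρ (x : Y) := by rw [← conjL_apply]; exact hx
        rw [← smul_mul_assoc, ← this, mul_assoc _ (ρ e⁻¹), ← map_mul ρ e⁻¹, inv_mul_cancel, map_one,
          mul_one]
      replace hy : ρ e * ρ (y : Y) = a • (ρ (y : Y) * ρ e) := by
        have : ρ e * ρ (y : Y) * ρ e⁻¹ = a • ρ (y : Y) := by rw [← conjL_apply]; exact hy
        rw [← smul_mul_assoc, ← this, mul_assoc _ (ρ e⁻¹), ← map_mul ρ e⁻¹, inv_mul_cancel, map_one,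
          mul_one]
      refine hinj ?_
      rw [Subgroup.coe_mul, Subgroup.coe_inv]
      have hxi : ρ (x : Y)⁻¹ * ρ e = a • (ρ e * ρ (x : Y)⁻¹) := by
        calc ρ (x : Y)⁻¹ * ρ e = ρ (x : Y)⁻¹ * (ρ e * ρ (x : Y)) * ρ (x : Y)⁻¹ := by
              rw [mul_assoc, mul_assoc (ρ e), ← map_mul ρ (x : Y), mul_inv_cancel, map_one, mul_one]
          _ = a • (ρ e * ρ (x : Y)⁻¹) := by
              rw [hx, mul_smul_comm, ← mul_assoc, ← map_mul, inv_mul_cancel, map_one, one_mul,
                smul_mul_assoc]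
      symm
      calc ρ ((x : Y)⁻¹ * y * e) = ρ (x : Y)⁻¹ * (ρ (y : Y) * ρ e) := by
            rw [map_mul, map_mul, mul_assoc]
        _ = ρ (e * ((x : Y)⁻¹ * y)) := by
            rcases eq_or_ne a 0 with rfl | ha
            · rw [zero_smul] at hx
              have h1 : (1 : Module.End k V) = 0 := by
                rw [← map_one ρ, ← mul_inv_cancel (e * (x : Y)), map_mul, map_mul, hx, zero_mul]
              exact absurd h1 one_ne_zero
            · apply smul_right_injective _ ha
              show a • _ = a • _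
              rw [← mul_smul_comm, ← hy, ← mul_assoc, hxi, smul_mul_assoc, map_mul, map_mul,
                mul_assoc]
    have hli : LinearIndependent k fun q : R => ρ ((q.out : E) : Y) :=
      iSupIndep.linearIndependent _ ((iSupIndep_jointEig f hcomm).comp hχ) hmem hne
    have : Fintype R := Fintype.ofFinite R
    have := hli.fintype_card_le_finrank
    rwa [← Nat.card_eq_fintype_card, Module.finrank_linearMap k k V V] at this
  -- counting roots
  have hsol : ∀ (m : ℕ) (c : Y), 1 ≤ m →
      Nat.card {a : Y // a ∈ E ∧ a ^ m = c} ≤ Nat.card R * m ^ 1 := by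
    intro m c hm
    rw [pow_one]
    have : Fintype R := Fintype.ofFinite R
    let T : R → Type u := fun q =>
      {a : Y // ∃ h : a ∈ E, a ^ m = c ∧ (QuotientGroup.mk ⟨a, h⟩ : R) = q}
    refine le_trans (Nat.card_le_card_of_injective
      (fun a => (⟨QuotientGroup.mk ⟨a.1, a.2.1⟩, a.1, a.2.1, a.2.2, rfl⟩ : Σ q : R, T q))
      fun a b h => Subtype.ext (congrArg (fun x : Σ q : R, T q => x.2.1) h :)) ?_
    rw [Nat.card_sigma, Nat.card_eq_fintype_card, ← Finset.card_univ, Finset.card_eq_sum_ones,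
      Finset.sum_mul, one_mul]
    refine Finset.sum_le_sum fun q _ => ?_
    rcases isEmpty_or_nonempty (T q) with h0 | ⟨⟨a0, ha0E, ha0c, ha0q⟩⟩
    · rw [Nat.card_of_isEmpty]; exact Nat.zero_le _
    have hz : ∀ a : T q, ∃ z : k, ρ (a0⁻¹ * a.1) = z • 1 := fun a => by
      obtain ⟨h, _, hq⟩ := a.2
      have := QuotientGroup.eq.mp (ha0q.trans hq.symm)
      exact Subgroup.mem_subgroupOf.mp this
    choose z hz using hz
    have hroot : ∀ a : T q, z a ∈ Polynomial.nthRootsFinset m (1 : k) := by
      intro a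
      rw [Polynomial.mem_nthRootsFinset hm]
      obtain ⟨h, hac, _⟩ := a.2
      have hcz : Commute a0 (a0⁻¹ * a.1) :=
        Subgroup.mem_center_iff.mp (hZc ⟨z a, hz a⟩) a0
      have h1 : a.1 ^ m = a0 ^ m * (a0⁻¹ * a.1) ^ m := by
        rw [← hcz.mul_pow, mul_inv_cancel_left]
      replace h1 := ha0c.trans (hac.symm.trans h1)
      rw [left_eq_mul] at h1
      have h2 : ρ ((a0⁻¹ * a.1) ^ m) = 1 := by rw [h1, map_one]
      rw [map_pow, hz a, smul_pow, one_pow] at h2
      by_contra hne
      have h3 : ((z a ^ m - 1) • (1 : Module.End k V)) = 0 := by rw [sub_smul, h2, one_smul, sub_self]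
      exact one_ne_zero ((smul_eq_zero.mp h3).resolve_left (sub_ne_zero.mpr hne))
    refine le_trans (Nat.card_le_card_of_injective
      (fun a => (⟨z a, hroot a⟩ : Polynomial.nthRootsFinset m (1 : k))) fun a b h => ?_) ?_
    · have h' : z a = z b := congrArg Subtype.val h
      have := hz a
      rw [h', ← hz b] at this
      exact Subtype.ext (mul_left_cancel (hinj this))
    · rw [Nat.card_eq_fintype_card, Fintype.card_coe]
      classical
      rw [Polynomial.nthRootsFinset_def]
      exact (Multiset.toFinset_card_le _).trans (Polynomial.card_nthRoots m 1)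
  obtain ⟨l, hl1, hl2⟩ := exists_index_centralizer_le hZE hZc hsol
  have hEcard : Nat.card E = Nat.card R * Nat.card Z := by
    rw [Subgroup.card_eq_card_quotient_mul_card_subgroup (Z.subgroupOf E),
      Nat.card_congr (Subgroup.subgroupOfEquivOfLe hZE).toEquiv]
  have hZpos : 0 < Nat.card Z := Nat.card_pos
  rw [hEcard] at hl1 hl2
  rw [pow_one, pow_one, ← mul_assoc, ← pow_succ] at hl2
  refine (RB.of_central Z hZc).le ?_
  refine le_trans ?_ (pow_le_expBound hd Nat.card_pos hRN (Nat.le_of_mul_le_mul_right hl1 hZpos))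
  exact (Nat.le_of_dvd (Nat.pos_of_ne_zero Subgroup.index_ne_zero_of_finite)
    (Subgroup.index_dvd_of_le hCE)).trans (Nat.le_of_mul_le_mul_right hl2 hZpos)

end CfsgLib.ClassLower
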