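import Mathlib
import Cfsg.Agent.Lib.ClassLower.Primitive

/-!
A finite solvable linear group of degree `d` without normal unipotent subgroups has order at most
`2 ^ (6 d - 4)` times its class number.
-/

set_option autoImplicit false
set_option linter.style.haveILetI false

namespace CfsgLib.ClassLower

open Module

universe u v w

variable {k : Type w} [Field k]

theorem irr_bound [IsAlgClosed k] (d : ℕ) : BoundBelow.{u, v, w} k d := by
  induction d with
  | zero => exact fun Y _ _ _ V _ _ _ ρ _ _ h => absurd h (Nat.not_lt_zero _)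
  | succ d IH =>
    intro Y _ _ _ V _ _ _ ρ hinj hirr hd
    rcases Nat.lt_or_ge (finrank k V) d with h | h
    · exact IH Y V ρ hinj hirr h
    by_cases hns : ∃ N : Subgroup Y, N.Normal ∧ (∀ a ∈ N, ∀ b ∈ N, a * b = b * a) ∧
        ∃ g ∈ N, ∀ c : k, ρ g ≠ c • 1
    · obtain ⟨N, hN1, hN2, hN3⟩ := hns
      exact monomial_case ρ hinj hirr (show finrank k V = d by omega ▸ IH) N hN1 hN2 hN3
    · push Not at hns
      have := hirr.1
      exact primitive_case ρ hinj fun A hA hAc g hg => hns A hA hAc g hg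

theorem expBound_add {a b : ℕ} (ha : 1 ≤ a) (hb : 1 ≤ b) :
    expBound a + expBound b ≤ expBound (a + b) := by
  have h1 := expBound_le a ha
  have h2 := expBound_le b hb
  rw [expBound_of_two_le (by omega : 2 ≤ a + b)]
  omega

theorem unipotent_of_two_steps {M : Type*} [Ring M] (r : ℕ) [Fact r.Prime] [CharP M r]
    {x : M} (h : (x - 1) * (x - 1) = 0) : x ^ r = 1 := by
  have hr : 2 ≤ r := (Fact.out : r.Prime).two_le
  have h2 : (x - 1) ^ r = 0 := by
    obtain ⟨s, rfl⟩ := Nat.exists_eq_add_of_le hr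
    rw [pow_add, pow_two, h, zero_mul]
  rwa [sub_pow_char_of_commute (p := r) (Commute.one_right x), one_pow, sub_eq_zero] at h2

theorem linear_bound_aux [IsAlgClosed k] (r : ℕ) [Fact r.Prime] [CharP k r] (d : ℕ) :
    ∀ (Y : Type u) [Group Y] [Finite Y] [Group.IsSolvable Y] (V : Type v) [AddCommGroup V]
    [Module k V] [FiniteDimensional k V] (ρ : Y →* Module.End k V),
    finrank k V = d → 1 ≤ d →
    ∃ U : Subgroup Y, ∃ _ : U.Normal, (∀ g ∈ U, ∃ a, ρ g ^ r ^ a = 1) ∧
      RB (Y ⧸ U) (2 ^ expBound d) := by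
  induction d using Nat.strong_induction_on with
  | _ d IH =>
  intro Y _ _ _ V _ _ _ ρ hd hd1
  have : Nontrivial V := Module.nontrivial_of_finrank_pos (R := k) (by omega)
  by_cases hirr : IsIrr ρ
  · refine ⟨ρ.ker, inferInstance, fun g hg => ⟨0, by rw [MonoidHom.mem_ker.mp hg, one_pow]⟩, ?_⟩
    obtain ⟨σ, hσ, hinj⟩ : ∃ σ : Y ⧸ ρ.ker →* Module.End k V,
        (∀ g : Y, σ (QuotientGroup.mk g) = ρ g) ∧ Function.Injective σ := by
      refine ⟨QuotientGroup.lift ρ.ker ρ le_rfl, fun g => rfl, ?_⟩
      rw [injective_iff_map_eq_one]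
      intro q hq
      induction q using QuotientGroup.induction_on with | _ g =>
      exact (QuotientGroup.eq_one_iff _).mpr (MonoidHom.mem_ker.mpr hq)
    have := irr_bound (d + 1) (Y ⧸ ρ.ker) V σ hinj ⟨hirr.1, fun W hW => hirr.2 W fun g x hx => by
      rw [← hσ]; exact hW _ x hx⟩ (by omega)
    rwa [hd] at this
  · obtain ⟨W, hWinv, hW0, hW1⟩ : ∃ W : Submodule k V, (∀ g, ∀ x ∈ W, ρ g x ∈ W) ∧
        W ≠ ⊥ ∧ W ≠ ⊤ := by
      unfold IsIrr at hirr
      push Not at hirr
      exact hirr inferInstance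
    let ρ1 : Y →* Module.End k W :=
      { toFun := fun g => (ρ g).restrict (hWinv g)
        map_one' := LinearMap.ext fun x => Subtype.ext (by simp)
        map_mul' := fun g h => LinearMap.ext fun x => Subtype.ext (by simp) }
    let ρ2 : Y →* Module.End k (V ⧸ W) :=
      { toFun := fun g => W.mapQ W (ρ g) (hWinv g)
        map_one' := Submodule.linearMap_qext _ (LinearMap.ext fun x => by simp)
        map_mul' := fun g h => Submodule.linearMap_qext _ (LinearMap.ext fun x => by simp) }
    have hsum := W.finrank_quotient_add_finrank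
    have hWpos : 1 ≤ finrank k W := Submodule.one_le_finrank_iff.mpr hW0
    have hQpos : 1 ≤ finrank k (V ⧸ W) := by
      have := Submodule.finrank_lt hW1
      omega
    obtain ⟨U1, hU1n, hU1, hB1⟩ := IH (finrank k W) (by omega) Y W ρ1 rfl hWpos
    obtain ⟨U2, hU2n, hU2, hB2⟩ := IH (finrank k (V ⧸ W)) (by omega) Y (V ⧸ W) ρ2 rfl hQpos
    have hnt : Nontrivial (Module.End k V) := inferInstance
    have : CharP (Module.End k V) r :=
      charP_of_injective_algebraMap (algebraMap k (Module.End k V)).injective r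
    refine ⟨U1 ⊓ U2, inferInstance, fun g hg => ?_, ?_⟩
    · obtain ⟨a, ha⟩ := hU1 g hg.1
      obtain ⟨b, hb⟩ := hU2 g hg.2
      have ha' : ρ1 (g ^ r ^ (a + b)) = 1 := by
        rw [map_pow, pow_add, pow_mul, ha, one_pow]
      have hb' : ρ2 (g ^ r ^ (a + b)) = 1 := by
        rw [map_pow, pow_add, mul_comm, pow_mul, hb, one_pow]
      refine ⟨a + b + 1, ?_⟩
      rw [pow_succ, pow_mul, ← map_pow]
      refine unipotent_of_two_steps r (LinearMap.ext fun x => ?_)
      have h2 : ρ (g ^ r ^ (a + b)) x - x ∈ W := by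
        rw [← Submodule.Quotient.eq]
        exact LinearMap.congr_fun hb' (Submodule.Quotient.mk x)
      have h1 : ρ (g ^ r ^ (a + b)) (ρ (g ^ r ^ (a + b)) x - x) = ρ (g ^ r ^ (a + b)) x - x :=
        congrArg Subtype.val (LinearMap.congr_fun ha' ⟨_, h2⟩)
      rw [Module.End.mul_apply, LinearMap.sub_apply, LinearMap.sub_apply, Module.End.one_apply,
        Module.End.one_apply, h1, sub_self, LinearMap.zero_apply]
    · refine (RB.of_injective ((QuotientGroup.map (U1 ⊓ U2) U1 (MonoidHom.id Y)
        (fun _ h => h.1)).prod (QuotientGroup.map (U1 ⊓ U2) U2 (MonoidHom.id Y) (fun _ h => h.2)))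
        ?_ (hB1.prod hB2)).le ?_
      · rw [injective_iff_map_eq_one]
        intro q hq
        induction q using QuotientGroup.induction_on with | _ g =>
        exact (QuotientGroup.eq_one_iff _).mpr ⟨(QuotientGroup.eq_one_iff _).mp (congrArg Prod.fst hq),
          (QuotientGroup.eq_one_iff _).mp (congrArg Prod.snd hq)⟩
      · rw [← pow_add]
        refine Nat.pow_le_pow_right (by norm_num) ((expBound_add hWpos hQpos).trans (le_of_eq ?_))
        rw [← hd, ← hsum, add_comm]

/-- A finite solvable linear group without nontrivial normal `r`-subgroups, `r` the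
characteristic. -/
theorem linear_bound [IsAlgClosed k] (r : ℕ) [Fact r.Prime] [CharP k r] {Y : Type u} [Group Y]
    [Finite Y] [Group.IsSolvable Y] {V : Type v} [AddCommGroup V] [Module k V]
    [FiniteDimensional k V] (ρ : Y →* Module.End k V) (hinj : Function.Injective ρ)
    (hd : 1 ≤ finrank k V) (hcore : ∀ U : Subgroup Y, U.Normal → IsPGroup r U → U = ⊥) :
    RB Y (2 ^ expBound (finrank k V)) := by
  obtain ⟨U, hUn, hU, hB⟩ := linear_bound_aux r _ Y V ρ rfl hd
  have hU0 : U = ⊥ := hcore U hUn fun g => by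
    obtain ⟨a, ha⟩ := hU g g.2
    exact ⟨a, Subtype.ext (hinj (by push_cast; rw [map_pow, map_one, ha]))⟩
  subst hU0
  exact hB.congr QuotientGroup.quotientBot

end CfsgLib.ClassLower
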