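import Mathlib
import Cfsg.Agent.Lib.FittingHeightPrime.SectionRep

/-!
Further properties of the coordinates on an elementary abelian normal subgroup.
-/

set_option autoImplicit false
set_option linter.style.haveILetI false

namespace CfsgLib.ClassLower

open CfsgLib.FittingHeightPrime

universe w

variable {Γ : Type w} [Group Γ] {p : ℕ} [Fact p.Prime] {K : Subgroup Γ}

theorem secRep_card [Finite Γ] (R : SecRep p K (⊥ : Subgroup Γ)) : Nat.card K = p ^ R.d := by
  classical
  let 𝕂 := AlgebraicClosure (ZMod p)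
  choose c hc using R.rational
  have hcinj : Function.Injective (algebraMap (ZMod p) 𝕂) := RingHom.injective _
  let f : K → (Fin R.d → ZMod p) := fun x i => c (x : Γ) i
  have hadd : ∀ x y : K, f (x * y) = f x + f y := fun x y => funext fun i => hcinj (by
    show algebraMap _ 𝕂 (c ((x : Γ) * y) i) = algebraMap _ 𝕂 (c (x : Γ) i + c (y : Γ) i)
    rw [map_add, ← hc, ← hc, ← hc, R.map_mul _ x.2 _ y.2]
    rfl)
  have hinj : Function.Injective f := by
    intro x y h
    have hv : ∀ z : K, f z = 0 → z = 1 := fun z hz => by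
      refine Subtype.ext (Subgroup.mem_bot.mp ((R.eq_zero _ z.2).mp (funext fun i => ?_)))
      rw [hc, show c (z : Γ) i = 0 from congrFun hz i, map_zero]
      rfl
    refine inv_mul_eq_one.mp (hv _ ?_)
    have h1 : f 1 = 0 := by simpa using hadd 1 1
    have h2 := hadd x⁻¹ x
    rw [inv_mul_cancel, h1] at h2
    rw [hadd, ← h, ← h2]
  have h1 : f 1 = 0 := by simpa using hadd 1 1
  let S : AddSubgroup (Fin R.d → ZMod p) :=
    { carrier := Set.range f
      add_mem' := by rintro _ _ ⟨x, rfl⟩ ⟨y, rfl⟩; exact ⟨x * y, hadd x y⟩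
      zero_mem' := ⟨1, h1⟩
      neg_mem' := by
        rintro _ ⟨x, rfl⟩
        refine ⟨x⁻¹, eq_neg_of_add_eq_zero_left ?_⟩
        rw [← hadd, inv_mul_cancel, h1] }
  let W : Submodule (ZMod p) (Fin R.d → ZMod p) := AddSubgroup.toZModSubmodule p S
  have hW : W = ⊤ := by
    by_contra hne
    obtain ⟨φ, hφ0, hφ⟩ := Submodule.exists_le_ker_of_lt_top W (lt_top_iff_ne_top.mpr hne)
    let Φ : (Fin R.d → 𝕂) →ₗ[𝕂] 𝕂 :=
      ∑ i, (algebraMap (ZMod p) 𝕂 (φ (Pi.single i 1))) • LinearMap.proj i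
    have hΦ : ∀ v : Fin R.d → ZMod p,
        Φ (fun i => algebraMap (ZMod p) 𝕂 (v i)) = algebraMap (ZMod p) 𝕂 (φ v) := by
      intro v
      conv_rhs => rw [pi_eq_sum_univ' v, map_sum, map_sum]
      simp only [Φ, LinearMap.sum_apply, LinearMap.smul_apply, LinearMap.proj_apply, smul_eq_mul,
        map_smul, map_mul]
      exact Finset.sum_congr rfl fun i _ => mul_comm _ _
    have hker : (⊤ : Submodule 𝕂 (Fin R.d → 𝕂)) ≤ LinearMap.ker Φ := by
      rw [← R.span, Submodule.span_le]
      rintro _ ⟨x, hx, rfl⟩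
      have hv : R.vec x = fun i => algebraMap (ZMod p) 𝕂 (f ⟨x, hx⟩ i) := funext fun i => hc x i
      rw [SetLike.mem_coe, LinearMap.mem_ker, hv, hΦ,
        LinearMap.mem_ker.mp (hφ (show f ⟨x, hx⟩ ∈ W from ⟨⟨x, hx⟩, rfl⟩)), map_zero]
    refine hφ0 (LinearMap.ext fun v => hcinj ?_)
    rw [← hΦ, LinearMap.mem_ker.mp (hker Submodule.mem_top), LinearMap.zero_apply, map_zero]
  have hsurj : Function.Surjective f := fun v => by
    have : v ∈ W := hW ▸ Submodule.mem_top
    exact this
  rw [Nat.card_eq_of_bijective f ⟨hinj, hsurj⟩, Nat.card_fun, Nat.card_zmod, Nat.card_fin]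

/-- Coordinatewise Frobenius. -/
noncomputable def frobVec (p : ℕ) [Fact p.Prime] (d : ℕ)
    (v : Fin d → AlgebraicClosure (ZMod p)) : Fin d → AlgebraicClosure (ZMod p) :=
  fun i => v i ^ p

theorem secRep_frob (R : SecRep p K (⊥ : Subgroup Γ)) (g : Γ)
    (v : Fin R.d → AlgebraicClosure (ZMod p)) :
    R.ρ g (frobVec p R.d v) = frobVec p R.d (R.ρ g v) := by
  have hfix : ∀ x, frobVec p R.d (R.vec x) = R.vec x := fun x => funext fun i => by
    obtain ⟨a, ha⟩ := R.rational x i
    show R.vec x i ^ p = _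
    rw [ha, ← map_pow, ZMod.pow_card]
  have hadd : ∀ u w : Fin R.d → AlgebraicClosure (ZMod p),
      frobVec p R.d (u + w) = frobVec p R.d u + frobVec p R.d w := fun u w => funext fun i =>
    add_pow_char (u i) (w i) p
  have hsmul : ∀ (a : AlgebraicClosure (ZMod p)) (u : Fin R.d → AlgebraicClosure (ZMod p)),
      frobVec p R.d (a • u) = a ^ p • frobVec p R.d u := fun a u => funext fun i => mul_pow a (u i) p
  have hv : v ∈ Submodule.span (AlgebraicClosure (ZMod p)) (R.vec '' (K : Set Γ)) :=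
    R.span ▸ Submodule.mem_top
  induction hv using Submodule.span_induction with
  | mem y hy =>
    obtain ⟨x, hx, rfl⟩ := hy
    rw [hfix, ← R.conj g x hx, hfix]
  | zero =>
    have h0 : frobVec p R.d 0 = 0 := funext fun i => zero_pow (Fact.out : p.Prime).ne_zero
    rw [h0, map_zero, h0]
  | add y z _ _ h1 h2 => rw [hadd, map_add, h1, h2, map_add, hadd]
  | smul a y _ h1 => rw [hsmul, map_smul, h1, map_smul, hsmul]

end CfsgLib.ClassLower
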