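import Mathlib
import Cfsg.Agent.Lib.ClassLower.Linear
import Cfsg.Agent.Lib.ClassLower.Section

/-!
The centralizer of a normal subgroup of prime order in a linear group over a prime field.
-/

set_option autoImplicit false
set_option linter.style.haveILetI false

namespace CfsgLib.ClassLower

open Module

universe u

theorem card_mul_two_pow_le {L : Type u} [Group L] [Finite L] [Group.IsSolvable L] {r : ℕ}
    [hr : Fact r.Prime] {p : ℕ} [hp : Fact p.Prime] (hp256 : 256 ≤ p) (hrp : r ≠ p) {n : ℕ}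
    (ρ : L →* Module.End (AlgebraicClosure (ZMod r)) (Fin n → AlgebraicClosure (ZMod r)))
    (hinj : Function.Injective ρ)
    (hfrob : ∀ g v, ρ g (frobVec r n v) = frobVec r n (ρ g v)) (hn : 1 ≤ n)
    (x : L) (hx : x ^ p = 1) (hfix : ∀ v, ρ x v = v → v = 0)
    (hA : (Subgroup.zpowers x).Normal)
    (hcore : ∀ U : Subgroup L, U ≤ Subgroup.centralizer {x} →
      (U.subgroupOf (Subgroup.centralizer {x})).Normal → IsPGroup r U → U = ⊥) :
    Nat.card (Subgroup.centralizer ({x} : Set L)) * r ^ (Subgroup.centralizer ({x} : Set L)).index ≤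
      r ^ n * Nat.card (ConjClasses (Subgroup.centralizer ({x} : Set L))) := by
  classical
  set C := Subgroup.centralizer ({x} : Set L) with hC
  let 𝕂 := AlgebraicClosure (ZMod r)
  let W := Fin n → 𝕂
  set T : Module.End 𝕂 W := ρ x with hT
  have hTp : T ^ p = 1 := by rw [hT, ← map_pow, hx, map_one]
  have hp0 : (p : 𝕂) ≠ 0 := by
    intro h
    rw [CharP.cast_eq_zero_iff 𝕂 r] at h
    exact hrp ((Nat.prime_dvd_prime_iff_eq hr.out hp.out).mp h)
  have hss : T.IsSemisimple := by
    refine Module.End.isSemisimple_of_squarefree_aeval_eq_zero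
      (p := (Polynomial.X ^ p - 1 : Polynomial 𝕂)) ?_ (by simp [hTp])
    exact ((Polynomial.X_pow_sub_one_separable_iff).mpr hp0).squarefree
  have htop : ⨆ μ : 𝕂, T.eigenspace μ = ⊤ := by
    rw [← Module.End.iSup_maxGenEigenspace_eq_top T]
    exact iSup_congr fun μ => (hss.isFinitelySemisimple.maxGenEigenspace_eq_eigenspace μ).symm
  let S := {μ : 𝕂 // T.eigenspace μ ≠ ⊥}
  have : Finite S := WellFoundedGT.finite_of_iSupIndep
    (T.eigenspaces_iSupIndep.comp Subtype.val_injective) fun μ => μ.2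
  have : Fintype S := Fintype.ofFinite S
  have hsum : ∑ μ : S, finrank 𝕂 (T.eigenspace μ.1) = n := by
    let A : S → Submodule 𝕂 W := fun μ => T.eigenspace μ.1
    have hint : DirectSum.IsInternal A := by
      refine (DirectSum.isInternal_submodule_iff_iSupIndep_and_iSup_eq_top A).mpr
        ⟨T.eigenspaces_iSupIndep.comp Subtype.val_injective, ?_⟩
      rw [eq_top_iff, ← htop]
      refine iSup_le fun μ => ?_
      by_cases h : T.eigenspace μ = ⊥
      · rw [h]; exact bot_le
      · exact le_iSup A ⟨μ, h⟩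
    conv_rhs => rw [← Module.finrank_fin_fun 𝕂 (n := n)]
    rw [← (LinearEquiv.ofBijective (DirectSum.coeLinearMap A) hint).finrank_eq,
      Module.finrank_directSum]
  have hpos : ∀ μ : S, 1 ≤ finrank 𝕂 (T.eigenspace μ.1) := fun μ =>
    Submodule.one_le_finrank_iff.mpr μ.2
  have hroot : ∀ μ : S, μ.1 ^ p = 1 ∧ μ.1 ≠ 1 := by
    intro μ
    obtain ⟨v, hv, hv0⟩ := (Submodule.ne_bot_iff _).mp μ.2
    rw [Module.End.mem_eigenspace_iff] at hv
    refine ⟨?_, fun h => hv0 (hfix v (by rw [hv, h, one_smul]))⟩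
    have hpow : ∀ j, (T ^ j) v = μ.1 ^ j • v := by
      intro j
      induction j with
      | zero => simp
      | succ j ih => rw [pow_succ', Module.End.mul_apply, ih, map_smul, hv, smul_smul, pow_succ]
    have h1 := hpow p
    rw [hTp, Module.End.one_apply] at h1
    by_contra hne
    refine hv0 ((smul_eq_zero.mp (?_ : (μ.1 ^ p - 1) • v = 0)).resolve_left (sub_ne_zero.mpr hne))
    rw [sub_smul, one_smul, ← h1, sub_self]
  have hord : ∀ μ : S, orderOf μ.1 = p := fun μ =>
    orderOf_eq_prime (hroot μ).1 (hroot μ).2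
  -- Frobenius
  have hFsm : ∀ (a : 𝕂) (v : W), frobVec r n (a • v) = a ^ r • frobVec r n v := fun a v =>
    funext fun i => mul_pow a (v i) r
  have hFsurj : ∀ v : W, ∃ u : W, frobVec r n u = v := by
    intro v
    choose u hu using fun i => IsAlgClosed.exists_pow_nat_eq (v i) hr.out.pos
    exact ⟨u, funext hu⟩
  have hFinj : Function.Injective (frobVec r n) := fun u v h => funext fun i =>
    frobenius_inj 𝕂 r (congrFun h i :)
  have hFeig : ∀ (μ : 𝕂) (v : W), frobVec r n v ∈ T.eigenspace (μ ^ r) ↔ v ∈ T.eigenspace μ := by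
    intro μ v
    rw [Module.End.mem_eigenspace_iff, Module.End.mem_eigenspace_iff, hT, hfrob, ← hFsm]
    exact hFinj.eq_iff
  have hFS : ∀ μ : S, T.eigenspace (μ.1 ^ r) ≠ ⊥ := by
    intro μ
    obtain ⟨v, hv, hv0⟩ := (Submodule.ne_bot_iff _).mp μ.2
    refine (Submodule.ne_bot_iff _).mpr ⟨_, (hFeig μ.1 v).mpr hv, fun h => hv0 (hFinj ?_)⟩
    rw [h]; exact funext fun i => (zero_pow hr.out.ne_zero).symm
  let step : S → S := fun μ => ⟨μ.1 ^ r, hFS μ⟩
  have hstep : ∀ (j : ℕ) (μ : S), (step^[j] μ).1 = μ.1 ^ r ^ j := by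
    intro j
    induction j with
    | zero => intro μ; simp
    | succ j ih =>
      intro μ
      rw [Function.iterate_succ_apply', pow_succ, pow_mul, ← ih]
  let st : Setoid S :=
    { r := fun μ ν => ∃ i j, step^[i] μ = step^[j] ν
      iseqv :=
        { refl := fun μ => ⟨0, 0, rfl⟩
          symm := fun ⟨i, j, h⟩ => ⟨j, i, h.symm⟩
          trans := fun {a b c} ⟨i, j, h⟩ ⟨i', j', h'⟩ => ⟨i' + i, j + j', by
            rw [Function.iterate_add_apply, h, ← Function.iterate_add_apply, add_comm,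
              Function.iterate_add_apply, h', ← Function.iterate_add_apply]⟩ } }
  let O := Quotient st
  let mk : S → O := Quotient.mk st
  have : Fintype O := Fintype.ofFinite O
  have hrep : ∀ q : O, ∃ μ : S, mk μ = q ∧
      ∀ ν : S, mk ν = q → finrank 𝕂 (T.eigenspace μ.1) ≤ finrank 𝕂 (T.eigenspace ν.1) := by
    intro q
    obtain ⟨μ0, hμ0⟩ := Quotient.exists_rep q
    obtain ⟨μ, hμ, hmin⟩ := Finset.exists_min_image
      (Finset.univ.filter fun ν : S => mk ν = q) (fun ν => finrank 𝕂 (T.eigenspace ν.1))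
      ⟨μ0, by simpa using hμ0⟩
    exact ⟨μ, (Finset.mem_filter.mp hμ).2, fun ν hν => hmin ν (by simpa using hν)⟩
  choose rep hrep1 hrep2 using hrep
  -- the bound on each eigenspace
  have hblock : ∀ μ : S, ∃ U : Subgroup C, ∃ _ : U.Normal,
      (∀ g ∈ U, ∃ a, ∀ v ∈ T.eigenspace μ.1, (ρ ((g : L) ^ r ^ a)) v = v) ∧
      RB (C ⧸ U) (2 ^ expBound (finrank 𝕂 (T.eigenspace μ.1))) := by
    intro μ
    have hinv : ∀ g : C, ∀ v ∈ T.eigenspace μ.1, ρ (g : L) v ∈ T.eigenspace μ.1 := by
      intro g v hv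
      rw [Module.End.mem_eigenspace_iff] at hv ⊢
      have hv' : ρ x v = μ.1 • v := hv
      show ρ x (ρ (g : L) v) = μ.1 • ρ (g : L) v
      rw [← Module.End.mul_apply, ← map_mul,
        ← (Subgroup.mem_centralizer_singleton_iff.mp g.2), map_mul, Module.End.mul_apply, hv',
        map_smul]
    let σ : C →* Module.End 𝕂 (T.eigenspace μ.1) :=
      { toFun := fun g => (ρ (g : L)).restrict (hinv g)
        map_one' := LinearMap.ext fun v => Subtype.ext (by simp)
        map_mul' := fun g h => LinearMap.ext fun v => Subtype.ext (by simp) }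
    obtain ⟨U, hUn, hU, hB⟩ := linear_bound_aux r _ C (T.eigenspace μ.1) σ rfl (hpos μ)
    refine ⟨U, hUn, fun g hg => ?_, hB⟩
    obtain ⟨a, ha⟩ := hU g hg
    refine ⟨a, fun v hv => ?_⟩
    rw [← map_pow] at ha
    exact congrArg Subtype.val (LinearMap.congr_fun ha ⟨v, hv⟩)
  choose U hUn hU hB using hblock
  -- fixing is constant on classes
  have hspread : ∀ (g : L) (μ : S),
      (∀ v ∈ T.eigenspace (step μ).1, ρ g v = v) ↔ ∀ v ∈ T.eigenspace μ.1, ρ g v = v := by
    intro g μ
    constructor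
    · intro h v hv
      exact hFinj (by rw [← hfrob, h _ ((hFeig μ.1 v).mpr hv)])
    · intro h v hv
      obtain ⟨u, rfl⟩ := hFsurj v
      rw [hfrob, h u ((hFeig μ.1 u).mp hv)]
  have hspread' : ∀ (g : L) (j : ℕ) (μ : S),
      (∀ v ∈ T.eigenspace (step^[j] μ).1, ρ g v = v) ↔ ∀ v ∈ T.eigenspace μ.1, ρ g v = v := by
    intro g j
    induction j with
    | zero => intro μ; rfl
    | succ j ih => intro μ; rw [Function.iterate_succ_apply', hspread, ih]
  have hRB : RB C (∏ q : O, 2 ^ expBound (finrank 𝕂 (T.eigenspace (rep q).1))) := by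
    have := fun q => hUn (rep q)
    refine RB.of_family (fun q => QuotientGroup.mk' (U (rep q))) (fun g hg => ?_)
      fun q => hB (rep q)
    let M : Subgroup C := ⨅ q, U (rep q)
    have hgM : g ∈ M := Subgroup.mem_iInf.mpr fun q => (QuotientGroup.eq_one_iff g).mp (hg q)
    have hMp : IsPGroup r M := by
      intro h
      choose a ha using fun q => hU (rep q) (h : C) (Subgroup.mem_iInf.mp h.2 q)
      refine ⟨∑ q, a q, Subtype.ext (Subtype.ext (hinj ?_))⟩
      push_cast
      rw [map_one]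
      refine LinearMap.ext fun v => ?_
      rw [Module.End.one_apply]
      refine Submodule.iSup_induction (motive := fun w => ρ (((h : C) : L) ^ r ^ ∑ q, a q) w = w) _
        (htop.ge (Submodule.mem_top (x := v))) (fun μ w hw => ?_) (map_zero _) ?_
      · by_cases hμ : T.eigenspace μ = ⊥
        · rw [hμ, Submodule.mem_bot] at hw; rw [hw, map_zero]
        · obtain ⟨i, j, hij⟩ : st.r (rep (mk ⟨μ, hμ⟩)) ⟨μ, hμ⟩ :=
            Quotient.exact (hrep1 (mk ⟨μ, hμ⟩))
          refine (hspread' _ j ⟨μ, hμ⟩).mp ?_ w hw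
          rw [← hij]
          refine (hspread' _ i _).mpr fun u hu => ?_
          obtain ⟨b, hb⟩ := Nat.exists_eq_add_of_le
            (Finset.single_le_sum (f := a) (fun _ _ => Nat.zero_le _)
              (Finset.mem_univ (mk ⟨μ, hμ⟩)))
          rw [hb, pow_add, pow_mul]
          have hfix' : ∀ m, ρ ((((h : C) : L) ^ r ^ a (mk ⟨μ, hμ⟩)) ^ m) u = u := by
            intro m
            induction m with
            | zero => simp
            | succ m ih => rw [pow_succ, map_mul, Module.End.mul_apply, ha _ u hu, ih]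
          exact hfix' _
      · intro w w' h1 h2
        rw [map_add, h1, h2]
    have hMn : M.Normal := Subgroup.normal_iInf_normal fun q => hUn (rep q)
    have h0 := hcore (M.map C.subtype) (Subgroup.map_subtype_le _)
      (by rw [Subgroup.subgroupOf, Subgroup.comap_map_eq_self_of_injective Subtype.val_injective]
          exact hMn) (hMp.map _)
    rw [Subgroup.map_eq_bot_iff_of_injective _ Subtype.val_injective] at h0
    rw [h0] at hgM
    exact Subgroup.mem_bot.mp hgM
  -- the numerical estimate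
  have hfibre : ∀ q : O,
      r ^ (Finset.univ.filter fun μ : S => mk μ = q).card *
        2 ^ expBound (finrank 𝕂 (T.eigenspace (rep q).1)) ≤
      r ^ ∑ μ ∈ Finset.univ.filter (fun μ : S => mk μ = q), finrank 𝕂 (T.eigenspace μ.1) := by
    intro q
    set Fq := Finset.univ.filter (fun μ : S => mk μ = q) with hFq
    set w := finrank 𝕂 (T.eigenspace (rep q).1) with hw
    have hsum_ge : Fq.card * w ≤ ∑ μ ∈ Fq, finrank 𝕂 (T.eigenspace μ.1) := by
      rw [← smul_eq_mul]
      exact Finset.card_nsmul_le_sum _ _ _ fun μ hμ => hrep2 q μ (Finset.mem_filter.mp hμ).2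
    refine le_trans ?_ (Nat.pow_le_pow_right hr.out.pos hsum_ge)
    have hw1 : 1 ≤ w := hpos (rep q)
    rcases eq_or_lt_of_le hw1 with h1 | h1
    · rw [← h1, mul_one]; simp [expBound]
    have hbig : 256 ≤ r ^ Fq.card := by
      obtain ⟨i, i', hne, heq⟩ := Fintype.exists_ne_map_eq_of_card_lt
        (fun i : Fin (Fq.card + 1) => (⟨step^[(i : ℕ)] (rep q), by
          refine Finset.mem_filter.mpr ⟨Finset.mem_univ _, ?_⟩
          refine Eq.trans ?_ (hrep1 q)
          exact Quotient.sound ⟨0, i, rfl⟩⟩ : Fq))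
        (by rw [Fintype.card_coe, Fintype.card_fin]; exact Nat.lt_succ_self _)
      rw [Subtype.mk.injEq] at heq
      wlog hii : (i : ℕ) < i' generalizing i i'
      · exact this i' i hne.symm heq.symm
          (lt_of_le_of_ne (not_lt.mp hii) fun h => hne (Fin.ext h.symm))
      have h := congrArg Subtype.val heq
      rw [hstep, hstep, IsOfFinOrder.pow_eq_pow_iff_modEq (orderOf_pos_iff.mp (by
        rw [hord]; exact hp.out.pos)), hord] at h
      obtain ⟨t, ht⟩ := Nat.exists_eq_add_of_le hii.le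
      rw [ht, pow_add] at h
      have hcop : Nat.gcd p (r ^ (i : ℕ)) = 1 :=
        Nat.Coprime.pow_right _ ((Nat.coprime_primes hp.out hr.out).mpr hrp.symm)
      have h' : r ^ (i : ℕ) * 1 ≡ r ^ (i : ℕ) * r ^ t [MOD p] := by rwa [mul_one]
      have h2 := Nat.ModEq.cancel_left_of_coprime hcop h'
      have ht0 : 1 ≤ t := by omega
      have hrt : 2 ≤ r ^ t := le_trans hr.out.two_le (Nat.le_self_pow (by omega) r)
      have h3 : p ∣ r ^ t - 1 := (Nat.modEq_iff_dvd' (by omega)).mp h2
      have h4 := Nat.le_of_dvd (by omega) h3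
      have h5 : r ^ t ≤ r ^ Fq.card :=
        Nat.pow_le_pow_right hr.out.pos (by have := i'.2; omega)
      omega
    obtain ⟨w', hw'⟩ := Nat.exists_eq_add_of_le h1
    rw [pow_mul, hw', show Nat.succ 1 + w' = 1 + (1 + w') by omega]
    rw [expBound_of_two_le (by omega), pow_add (r ^ Fq.card) 1, pow_one]
    refine Nat.mul_le_mul_left _ ?_
    calc 2 ^ (6 * (1 + (1 + w')) - 4) ≤ 2 ^ (8 * (1 + w')) :=
          Nat.pow_le_pow_right (by norm_num) (by omega)
      _ = 256 ^ (1 + w') := by rw [pow_mul]; norm_num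
      _ ≤ (r ^ Fq.card) ^ (1 + w') := Nat.pow_le_pow_left hbig _
  -- the number of eigenvalues
  have hidx : C.index ≤ Fintype.card S := by
    have : Nontrivial W := by
      have : Nonempty (Fin n) := ⟨⟨0, hn⟩⟩
      infer_instance
    obtain ⟨μ0, hμ0⟩ : ∃ μ, T.eigenspace μ ≠ ⊥ := by
      by_contra! h
      simp [h] at htop
    obtain ⟨v, hv, hv0⟩ := (Submodule.ne_bot_iff _).mp hμ0
    rw [Module.End.mem_eigenspace_iff] at hv
    have hpowv : ∀ j : ℕ, ρ (x ^ j) v = μ0 ^ j • v := by
      intro j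
      induction j with
      | zero => simp
      | succ j ih =>
        rw [pow_succ', map_mul, Module.End.mul_apply, ih, map_smul, ← hT, hv, smul_smul, pow_succ]
    have hconj : ∀ g : L, ∃ j : ℕ, g⁻¹ * x * g = x ^ j := by
      intro g
      have h1 : g⁻¹ * x * g ∈ Subgroup.zpowers x := by
        simpa using hA.conj_mem x (Subgroup.mem_zpowers x) g⁻¹
      rw [mem_zpowers_iff_mem_range_orderOf] at h1
      obtain ⟨j, _, hj⟩ := Finset.mem_image.mp h1
      exact ⟨j, hj.symm⟩
    choose J hJ using hconj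
    have hmem : ∀ g : L, T.eigenspace (μ0 ^ J g) ≠ ⊥ := by
      intro g
      refine (Submodule.ne_bot_iff _).mpr ⟨ρ g v, ?_, fun h => hv0 ?_⟩
      · rw [Module.End.mem_eigenspace_iff, hT, ← Module.End.mul_apply, ← map_mul,
          show x * g = g * (g⁻¹ * x * g) by group, hJ, map_mul, Module.End.mul_apply, hpowv,
          map_smul]
      · have := congrArg (ρ g⁻¹) h
        rwa [map_zero, ← Module.End.mul_apply, ← map_mul, inv_mul_cancel, map_one,
          Module.End.one_apply] at this
    rw [Subgroup.index, ← Nat.card_eq_fintype_card]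
    refine Nat.card_le_card_of_injective
      (fun q : L ⧸ C => (⟨μ0 ^ J (q.out)⁻¹, hmem _⟩ : S)) fun q q' h => ?_
    rw [Subtype.mk.injEq, IsOfFinOrder.pow_eq_pow_iff_modEq (orderOf_pos_iff.mp (by
      rw [hord ⟨μ0, hμ0⟩]; exact hp.out.pos)), hord ⟨μ0, hμ0⟩] at h
    have hox : orderOf x ∣ p := orderOf_dvd_of_pow_eq_one hx
    have e : x ^ J (q.out)⁻¹ = x ^ J (q'.out)⁻¹ :=
      pow_eq_pow_iff_modEq.mpr (h.of_dvd hox)
    rw [← hJ, ← hJ, inv_inv, inv_inv] at e
    rw [← QuotientGroup.out_eq' q, ← QuotientGroup.out_eq' q', QuotientGroup.eq]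
    refine Subgroup.mem_centralizer_singleton_iff.mpr ?_
    calc (q.out)⁻¹ * q'.out * x = (q.out)⁻¹ * (q'.out * x * (q'.out)⁻¹) * q'.out := by group
      _ = (q.out)⁻¹ * (q.out * x * (q.out)⁻¹) * q'.out := by rw [← e]
      _ = x * ((q.out)⁻¹ * q'.out) := by group
  calc Nat.card C * r ^ C.index ≤ Nat.card C * r ^ Fintype.card S :=
        Nat.mul_le_mul_left _ (Nat.pow_le_pow_right hr.out.pos hidx)
    _ ≤ (∏ q : O, 2 ^ expBound (finrank 𝕂 (T.eigenspace (rep q).1))) * Nat.card (ConjClasses C) *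
          r ^ Fintype.card S := Nat.mul_le_mul_right _ hRB
    _ = (∏ q : O, r ^ (Finset.univ.filter fun μ : S => mk μ = q).card *
          2 ^ expBound (finrank 𝕂 (T.eigenspace (rep q).1))) * Nat.card (ConjClasses C) := by
        rw [Finset.prod_mul_distrib, Finset.prod_pow_eq_pow_sum, Finset.prod_pow_eq_pow_sum,
          ← Finset.card_eq_sum_card_fiberwise (fun μ _ => Finset.mem_univ (mk μ)),
          Finset.card_univ]
        ring
    _ ≤ r ^ n * Nat.card (ConjClasses C) := by
        refine Nat.mul_le_mul_right _ ?_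
        refine (Finset.prod_le_prod' fun q _ => hfibre q).trans_eq ?_
        rw [Finset.prod_pow_eq_pow_sum, Finset.sum_fiberwise, hsum]

end CfsgLib.ClassLower
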