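import Mathlib
import Cfsg.Agent.Lib.ClassLower.Arith
import Cfsg.Agent.Lib.ClassLower.ClassCount
import Cfsg.Agent.Lib.ClassLower.FrobEigen
import Cfsg.Agent.Lib.SolvableStructure.MinimalNormal

/-!
Class numbers of solvable groups with a non-normal Sylow `p`-subgroup.
-/

set_option autoImplicit false
set_option linter.style.haveILetI false
set_option linter.unusedSectionVars false

namespace CfsgLib.ClassLower

open Subgroup CfsgLib.FittingHeightPrime
open scoped commutatorElement

universe u

variable {X : Type u} [Group X] [Finite X]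

/-- A normalizing `p`-group centralizes a nontrivial element. -/
theorem exists_centralized {p : ℕ} [Fact p.Prime] {A Q : Subgroup X} (hA : IsPGroup p A)
    (hA1 : A ≠ ⊥) (hQ : IsPGroup p Q) (hn : ∀ q ∈ Q, ∀ a ∈ A, q * a * q⁻¹ ∈ A) :
    ∃ a ∈ A, a ≠ 1 ∧ ∀ q ∈ Q, q * a = a * q := by
  classical
  let _ : MulAction Q A :=
    { smul := fun q a => ⟨(q : X) * a * (q : X)⁻¹, hn q q.2 a a.2⟩
      one_smul := fun a => Subtype.ext (show (1 : X) * a * (1 : X)⁻¹ = a by group)
      mul_smul := fun q q' a => Subtype.ext (show ((q : X) * q') * a * ((q : X) * q')⁻¹ =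
        (q : X) * ((q' : X) * a * (q' : X)⁻¹) * (q : X)⁻¹ by group) }
  have hdvd : p ∣ Nat.card A := by
    obtain ⟨n, hn⟩ := hA.exists_card_eq
    rw [hn]
    refine dvd_pow_self p fun h0 => hA1 (Subgroup.card_eq_one.mp ?_)
    rw [hn, h0, pow_zero]
  have h1 : (1 : A) ∈ MulAction.fixedPoints Q A := fun q => Subtype.ext (show
    (q : X) * 1 * (q : X)⁻¹ = 1 by group)
  obtain ⟨a, ha, hne⟩ := hQ.exists_fixed_point_of_prime_dvd_card_of_fixed_point A hdvd h1
  refine ⟨a, a.2, fun h => hne (Subtype.ext h.symm), fun q hq => ?_⟩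
  have h2 : q * a * q⁻¹ = (a : X) := congrArg Subtype.val (ha ⟨q, hq⟩)
  exact mul_inv_eq_iff_eq_mul.mp h2

theorem isPGroup_of_pow_eq_one {p : ℕ} {A : Subgroup X} (h : ∀ a ∈ A, a ^ p = 1) : IsPGroup p A :=
  fun a => ⟨1, Subtype.ext (by simpa using h a a.2)⟩

theorem eq_bot_of_lt_prime_pow {p : ℕ} [Fact p.Prime] {A : Subgroup X}
    (h : ∀ a ∈ A, a ^ p = 1) {q : ℕ} [Fact q.Prime] (hpq : p ≠ q) (hA : IsPGroup q A) : A = ⊥ :=
  disjoint_self.mp (IsPGroup.disjoint_of_ne p q hpq A A (isPGroup_of_pow_eq_one h) hA)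

/-- The configuration of a minimal counterexample. -/
structure Config (X : Type u) [Group X] (p r : ℕ) where
  V : Subgroup X
  L : Subgroup X
  hV : V.Normal
  hV1 : V ≠ ⊥
  hmin : ∀ W : Subgroup X, W.Normal → W ≠ ⊥ → W ≤ V → W = V
  hexp : ∀ v ∈ V, v ^ r = 1
  hcent : centralizer (V : Set X) = V
  hcomp : L ⊓ V = ⊥
  hsup : L ⊔ V = ⊤
  hdvd : p ∣ Nat.card L
  hsyl : ∀ P : Sylow p L, (P : Subgroup L).Normal
  hne : r ≠ p

theorem Config.card_quot {p r : ℕ} (c : Config X p r) [c.V.Normal] :
    Nat.card (ConjClasses (X ⧸ centralizer (c.V : Set X))) = Nat.card (ConjClasses c.L) ∧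
      (centralizer (c.V : Set X)).index = Nat.card c.L := by
  have := c.hV
  let f : c.L →* X ⧸ c.V := (QuotientGroup.mk' c.V).comp c.L.subtype
  have hinj : Function.Injective f := by
    rw [injective_iff_map_eq_one]
    intro l hl
    refine Subtype.ext ?_
    have : (l : X) ∈ c.L ⊓ c.V := ⟨l.2, (QuotientGroup.eq_one_iff _).mp hl⟩
    rw [c.hcomp] at this
    exact mem_bot.mp this
  have hsurj : Function.Surjective f := fun q => by
    induction q using QuotientGroup.induction_on with | _ g =>
    obtain ⟨l, hl, v, hv, rfl⟩ := mem_sup_of_normal_right.mp (c.hsup ▸ mem_top g)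
    refine ⟨⟨l, hl⟩, QuotientGroup.eq.mpr ?_⟩
    simpa using hv
  have e := MulEquiv.ofBijective f ⟨hinj, hsurj⟩
  refine ⟨?_, ?_⟩
  · rw [card_conjClasses_congr e]
    exact card_conjClasses_congr (QuotientGroup.quotientMulEquivOfEq c.hcent)
  · rw [c.hcent, Nat.card_congr e.toEquiv]
    rfl

theorem sq_ge_four_mul {a b k : ℕ} (h : a + b ≤ k) : 4 * a * b ≤ k ^ 2 := by
  have := Nat.pow_le_pow_left h 2
  nlinarith [sq_nonneg ((a : ℤ) - b), four_mul_le_pow_two_add (a := a) (b := b)]

theorem Config.bound [Group.IsSolvable X] {p r : ℕ} [hp : Fact p.Prime] [hr : Fact r.Prime]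
    (c : Config X p r) : 2 ^ p ≤ p ^ (3 * Nat.card (ConjClasses X)) := by
  classical
  have := c.hV
  obtain ⟨hqk, hqi⟩ := c.card_quot
  obtain ⟨o, ho1, ho2⟩ := exists_orbit_count c.V (le_of_eq c.hcent.symm)
  rw [hqi] at ho1
  rw [hqk] at ho2
  have hVr : IsPGroup r c.V := isPGroup_of_pow_eq_one c.hexp
  have hV2 : 2 ≤ Nat.card c.V := Finite.one_lt_card_iff_nontrivial.mpr
    ((Subgroup.nontrivial_iff_ne_bot _).mpr c.hV1)
  have hopos : 1 ≤ o := by
    by_contra! h
    interval_cases o
    omega
  -- fixed points of normal subgroups of the complement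
  have hfixN : ∀ N : Subgroup c.L, N.Normal → ∀ v ∈ c.V, v ≠ 1 →
      (∀ n ∈ N, (n : X) * v = v * n) → N = ⊥ := by
    intro N hN v hv hv1 hcv
    let W : Subgroup X := c.V ⊓ centralizer ((N.map c.L.subtype : Subgroup X) : Set X)
    have hWn : W.Normal := by
      refine ⟨fun w hw g => ?_⟩
      obtain ⟨l, hl, u, hu, rfl⟩ := mem_sup_of_normal_right.mp (c.hsup ▸ mem_top g)
      refine ⟨c.hV.conj_mem w hw.1 _, mem_centralizer_iff.mpr ?_⟩
      rintro _ ⟨n, hn, rfl⟩
      have h1 : u * w * u⁻¹ = w := by
        have := mem_centralizer_iff.mp (c.hcent.ge hu) w hw.1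
        rw [← this, mul_inv_cancel_right]
      have h2 : ((⟨l, hl⟩ : c.L)⁻¹ * n * ⟨l, hl⟩ : c.L) ∈ N := by
        simpa using hN.conj_mem n hn (⟨l, hl⟩ : c.L)⁻¹
      have h3 := mem_centralizer_iff.mp hw.2 _ (mem_map_of_mem c.L.subtype h2)
      simp only [map_mul, map_inv, Subgroup.coe_subtype] at h3 ⊢
      rw [show l * u * w * (l * u)⁻¹ = l * (u * w * u⁻¹) * l⁻¹ by group, h1]
      calc (n : X) * (l * w * l⁻¹) = l * ((l⁻¹ * n * l) * w) * l⁻¹ := by group
        _ = l * (w * (l⁻¹ * n * l)) * l⁻¹ := by rw [h3]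
        _ = l * w * l⁻¹ * n := by group
    have hWV : W = c.V := by
      refine c.hmin W hWn (fun h => hv1 ?_) inf_le_left
      have : v ∈ W := ⟨hv, mem_centralizer_iff.mpr (by rintro _ ⟨n, hn, rfl⟩; exact hcv n hn)⟩
      rw [h] at this
      exact mem_bot.mp this
    refine (eq_bot_iff_forall N).mpr fun n hn => Subtype.ext ?_
    have hnC : (n : X) ∈ centralizer (c.V : Set X) := mem_centralizer_iff.mpr fun w hw =>
      (mem_centralizer_iff.mp (hWV.ge hw).2 _ (mem_map_of_mem c.L.subtype hn)).symm
    rw [c.hcent] at hnC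
    have h : (n : X) ∈ c.L ⊓ c.V := ⟨n.2, hnC⟩
    rw [c.hcomp] at h
    exact mem_bot.mp h
  have hnoR : ∀ N : Subgroup c.L, N.Normal → IsPGroup r N → N = ⊥ := by
    intro N hN hNr
    obtain ⟨a, ha, ha1, hcom⟩ := exists_centralized hVr c.hV1 (hNr.map c.L.subtype)
      (fun q _ a ha => c.hV.conj_mem a ha q)
    exact hfixN N hN a ha ha1 fun n hn => hcom n (mem_map_of_mem _ hn)
  -- a minimal normal subgroup in the Sylow subgroup
  obtain ⟨P⟩ : Nonempty (Sylow p c.L) := inferInstance
  have hP := c.hsyl P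
  have hP1 : (P : Subgroup c.L) ≠ ⊥ := P.ne_bot_of_dvd_card c.hdvd
  obtain ⟨A, hAP, hA, hA1, hAmin⟩ := CfsgLib.SolvableStructure.exists_minimal_normal hP hP1
  have := hA
  obtain ⟨hAexp, hAcomm⟩ : (∀ a ∈ A, a ^ p = 1) ∧ ∀ a ∈ A, ∀ b ∈ A, a * b = b * a := by
    have hcomm : IsMulCommutative A :=
      CfsgLib.SolvableStructure.isMulCommutative_of_minimal_normal hA1 hAmin
    obtain ⟨q, _, hq, _, _, hexp, _⟩ := CfsgLib.SolvableStructure.minimal_normal_prime hA1 hAmin
    refine ⟨?_, fun a ha b hb =>
      CfsgLib.SolvableStructure.commute_of_isMulCommutative (h := hcomm) ha hb⟩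
    have : Fact q.Prime := ⟨hq⟩
    by_cases hqp : q = p
    · exact hqp ▸ hexp
    · exact absurd (eq_bot_of_lt_prime_pow hexp hqp (P.isPGroup'.to_le hAP)) hA1
  have hAp : IsPGroup p A := isPGroup_of_pow_eq_one hAexp
  obtain ⟨o', ho'1, ho'2⟩ := exists_orbit_count A
    (fun a ha => mem_centralizer_iff.mpr fun b hb => hAcomm b hb a ha)
  set C := centralizer (A : Set c.L) with hC
  obtain ⟨RA⟩ := exists_secRep (p := p) A (⊥ : Subgroup c.L) bot_le
    ((commutator_le).mpr fun a ha b hb => by
      rw [mem_bot, commutatorElement_eq_one_iff_mul_comm]; exact hAcomm a ha b hb)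
    fun a ha => mem_bot.mpr (hAexp a ha)
  have hAcard := secRep_card RA
  have hA2 : 2 ≤ Nat.card A := Finite.one_lt_card_iff_nontrivial.mpr
    ((Subgroup.nontrivial_iff_ne_bot _).mpr hA1)
  have hd1 : 1 ≤ RA.d := by
    rcases Nat.eq_zero_or_pos RA.d with h | h
    · rw [h, pow_zero] at hAcard; omega
    · exact h
  have hk : Nat.card (ConjClasses (c.L ⧸ C)) + o' + o ≤ Nat.card (ConjClasses X) :=
    (Nat.add_le_add_right ho'2 o).trans ho2
  have hk1 : 1 ≤ Nat.card (ConjClasses (c.L ⧸ C)) :=
    @Nat.card_pos _ ⟨ConjClasses.mk 1⟩ _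
  set k := Nat.card (ConjClasses X) with hkdef
  rcases eq_or_lt_of_le hd1 with hd | hd
  · -- cyclic
    rw [← hd, pow_one] at hAcard
    obtain ⟨x, hxA, hx1⟩ : ∃ x ∈ A, x ≠ 1 := by
      by_contra! h
      exact hA1 ((eq_bot_iff_forall A).mpr h)
    have hAz : zpowers x = A := by
      refine eq_of_le_of_card_ge (zpowers_le.mpr hxA) ?_
      rw [hAcard, Nat.card_zpowers, orderOf_eq_prime (hAexp x hxA) hx1]
    have hCx : C = centralizer ({x} : Set c.L) := by
      refine le_antisymm (centralizer_le (Set.singleton_subset_iff.mpr hxA)) fun g hg => ?_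
      refine mem_centralizer_iff.mpr fun a ha => ?_
      rw [SetLike.mem_coe, ← hAz, mem_zpowers_iff] at ha
      obtain ⟨i, rfl⟩ := ha
      exact (Commute.zpow_left (mem_centralizer_singleton_iff.mp hg).symm i).eq
    have hM : Nat.card (ConjClasses (c.L ⧸ C)) = C.index := by
      have hZ : center (c.L ⧸ C) = ⊤ := by
        refine eq_top_iff.mpr fun a _ => mem_center_iff.mpr fun b => ?_
        induction a using QuotientGroup.induction_on with | _ g =>
        induction b using QuotientGroup.induction_on with | _ h =>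
        rw [← QuotientGroup.mk_mul, ← QuotientGroup.mk_mul, QuotientGroup.eq, hCx,
          mem_centralizer_singleton_iff]
        have hj : ∀ g : c.L, ∃ i : ℤ, g * x * g⁻¹ = x ^ i := fun g => by
          have h1 := hA.conj_mem x hxA g
          rw [← hAz, mem_zpowers_iff] at h1
          obtain ⟨i, hi⟩ := h1
          exact ⟨i, hi.symm⟩
        obtain ⟨i, hi⟩ := hj g
        obtain ⟨j, hj⟩ := hj h
        have e : g * h * x * (g * h)⁻¹ = h * g * x * (h * g)⁻¹ := by
          calc g * h * x * (g * h)⁻¹ = g * (h * x * h⁻¹) * g⁻¹ := by group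
            _ = (g * x * g⁻¹) ^ j := by rw [hj, ← conj_zpow]
            _ = (h * x * h⁻¹) ^ i := by rw [hi, hj, ← zpow_mul, ← zpow_mul, mul_comm]
            _ = h * (g * x * g⁻¹) * h⁻¹ := by rw [conj_zpow, hi]
            _ = h * g * x * (h * g)⁻¹ := by group
        calc (h * g)⁻¹ * (g * h) * x
            = (h * g)⁻¹ * (g * h * x * (g * h)⁻¹) * (g * h) := by group
          _ = (h * g)⁻¹ * (h * g * x * (h * g)⁻¹) * (g * h) := by rw [e]
          _ = x * ((h * g)⁻¹ * (g * h)) := by group
      refine le_antisymm ?_ ?_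
      · exact Nat.card_le_card_of_surjective _ Quotient.mk_surjective
      · refine le_trans (le_of_eq ?_) card_center_le
        rw [hZ, card_top]
        rfl
    rw [hM] at hk hk1
    rw [hAcard] at ho'1
    set m := C.index with hm
    have hkm : p ≤ k * m := by
      have : m + o' + 1 ≤ k := by omega
      have h1 := Nat.mul_le_mul_right m this
      have hm1 : 1 ≤ m := Nat.pos_of_ne_zero index_ne_zero_of_finite
      rw [add_mul, add_mul, one_mul] at h1
      omega
    rcases Nat.lt_or_ge p 4096 with hp12 | hp12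
    · refine arith_one_mid hp.out hp12 ?_
      have h1 := sq_ge_four_mul (a := m) (b := o') (k := k) (by omega)
      have : 4 * (p - 1) ≤ 4 * m * o' := by nlinarith [ho'1]
      omega
    · refine arith_one_big hp12 hkm ?_
      obtain ⟨RV⟩ := exists_secRep (p := r) c.V (⊥ : Subgroup X) bot_le
        ((commutator_le).mpr fun a ha b hb => by
          rw [mem_bot, commutatorElement_eq_one_iff_mul_comm]
          exact mem_centralizer_iff.mp (c.hcent.ge hb) a ha)
        fun a ha => mem_bot.mpr (c.hexp a ha)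
      have hVcard := secRep_card RV
      have hn1 : 1 ≤ RV.d := by
        rcases Nat.eq_zero_or_pos RV.d with h | h
        · rw [h, pow_zero] at hVcard; omega
        · exact h
      let ρ := RV.ρ.comp c.L.subtype
      have hinj : Function.Injective ρ := by
        rw [injective_iff_map_eq_one]
        intro l hl
        have h1 : (l : X) ∈ centralizer (c.V : Set X) := mem_centralizer_iff.mpr fun v hv =>
          (commutatorElement_eq_one_iff_mul_comm.mp
            (mem_bot.mp ((RV.rho_eq_one l).mp hl v hv))).symm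
        rw [c.hcent] at h1
        have h : (l : X) ∈ c.L ⊓ c.V := ⟨l.2, h1⟩
        rw [c.hcomp] at h
        exact Subtype.ext (mem_bot.mp h)
      have hxp : x ^ p = 1 := hAexp x hxA
      have hfix : ∀ v, ρ x v = v → v = 0 := by
        have hsum : ∀ (i : ℕ) (v : X), v ∈ c.V → ∃ w ∈ c.V,
            (∑ j ∈ Finset.range i, ρ x ^ j) (RV.vec v) = RV.vec w := by
          intro i v hv
          induction i with
          | zero =>
            exact ⟨1, one_mem _, by
              rw [Finset.sum_range_zero, LinearMap.zero_apply,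
                (RV.eq_zero 1 (one_mem _)).mpr (one_mem _)]⟩
          | succ i ih =>
            obtain ⟨w, hw, hw'⟩ := ih
            refine ⟨w * ((x : X) ^ i * v * ((x : X) ^ i)⁻¹), mul_mem hw (c.hV.conj_mem v hv _), ?_⟩
            rw [Finset.sum_range_succ, LinearMap.add_apply, hw',
              RV.map_mul _ hw _ (c.hV.conj_mem v hv _), RV.conj _ _ hv, ← map_pow]
            rfl
        have hfixed : ρ x * ∑ j ∈ Finset.range p, ρ x ^ j = ∑ j ∈ Finset.range p, ρ x ^ j := by
          have h1 := mul_geom_sum (ρ x) p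
          rw [← map_pow, hxp, map_one, sub_self, sub_mul, one_mul, sub_eq_zero] at h1
          exact h1
        have hzero : (∑ j ∈ Finset.range p, ρ x ^ j) = 0 := by
          refine LinearMap.ext_on RV.span ?_
          rintro _ ⟨v, hv, rfl⟩
          obtain ⟨w, hw, hw'⟩ := hsum p v hv
          rw [LinearMap.zero_apply, hw', RV.eq_zero w hw, mem_bot]
          by_contra hw1
          have h1 : RV.vec ((x : X) * w * (x : X)⁻¹) = RV.vec w := by
            rw [RV.conj _ _ hw, ← hw']
            exact LinearMap.congr_fun hfixed _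
          have h2 : ((x : X) * w * (x : X)⁻¹) * w⁻¹ = 1 := by
            refine mem_bot.mp ((RV.eq_zero _ (mul_mem (c.hV.conj_mem w hw _) (inv_mem hw))).mp ?_)
            rw [RV.map_mul _ (c.hV.conj_mem w hw _) _ (inv_mem hw), h1,
              ← RV.map_mul _ hw _ (inv_mem hw), mul_inv_cancel]
            exact (RV.eq_zero 1 (one_mem _)).mpr (one_mem _)
          have h3 : (x : X) * w = w * x := by
            rwa [mul_inv_eq_one, mul_inv_eq_iff_eq_mul] at h2
          refine hA1 (hfixN A hA w hw hw1 fun a ha => ?_)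
          rw [← hAz, mem_zpowers_iff] at ha
          obtain ⟨i, rfl⟩ := ha
          push_cast
          exact (Commute.zpow_left h3 i).eq
        intro v hv
        have h1 : ∀ j : ℕ, (ρ x ^ j) v = v := by
          intro j
          induction j with
          | zero => simp
          | succ j ih => rw [pow_succ, Module.End.mul_apply, hv, ih]
        have h2 := LinearMap.congr_fun hzero v
        rw [LinearMap.sum_apply, Finset.sum_congr rfl fun j _ => h1 j, Finset.sum_const,
          Finset.card_range, LinearMap.zero_apply, ← Nat.cast_smul_eq_nsmul (AlgebraicClosure (ZMod r))] at h2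
        refine (smul_eq_zero.mp h2).resolve_left fun h => ?_
        rw [CharP.cast_eq_zero_iff (AlgebraicClosure (ZMod r)) r] at h
        exact c.hne ((Nat.prime_dvd_prime_iff_eq hr.out hp.out).mp h)
      have hcore : ∀ U : Subgroup c.L, U ≤ centralizer {x} →
          (U.subgroupOf (centralizer ({x} : Set c.L))).Normal → IsPGroup r U → U = ⊥ := by
        intro U hU hUn hUr
        rw [← hCx] at hU hUn
        have hCn : C.Normal := normal_centralizer
        let U' := (U.subgroupOf C)
        have hU'r : IsPGroup r U' := hUr.comap_of_injective C.subtype Subtype.val_injective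
        obtain ⟨Q⟩ : Nonempty (Sylow r C) := inferInstance
        have hnc : normalClosure (U : Set c.L) ≤ (Q : Subgroup C).map C.subtype := by
          rw [normalClosure, closure_le]
          intro g hg
          obtain ⟨a, ha, hag⟩ := Group.mem_conjugatesOfSet_iff.mp hg
          obtain ⟨t, rfl⟩ := isConj_iff.mp hag
          let U'' : Subgroup C := U'.map (MulAut.conjNormal (H := C) t).toMonoidHom
          have hnorm : U''.Normal := hUn.map _ (MulAut.conjNormal (H := C) t).surjective
          have hpg : IsPGroup r U'' := hU'r.map _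
          have hmem : (⟨t * a * t⁻¹, hCn.conj_mem a (hU ha) t⟩ : C) ∈ U'' :=
            ⟨⟨a, hU ha⟩, ha, Subtype.ext (MulAut.conjNormal_apply t _)⟩
          have hle : U'' ≤ (Q : Subgroup C) := by
            have : U'' ⊔ (Q : Subgroup C) = Q :=
              Q.is_maximal' (IsPGroup.to_sup_of_normal_left hpg Q.isPGroup') le_sup_right
            exact le_sup_left.trans this.le
          exact ⟨_, hle hmem, rfl⟩
        have hN := hnoR _ normalClosure_normal ((Q.isPGroup'.map C.subtype).to_le hnc)
        exact (eq_bot_iff_forall U).mpr fun g hg =>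
          mem_bot.mp (hN.le (le_normalClosure hg))
      have hfe := card_mul_two_pow_le (r := r) (p := p) (by omega) c.hne ρ hinj
        (fun g v => secRep_frob RV (g : X) v) hn1 x hxp hfix (hAz.symm ▸ hA) hcore
      rw [← hCx, ← hm, ← hVcard] at hfe
      have hkC := (Cfsg.Agent.S4200.result C).1
      have hcardL : Nat.card C * m = Nat.card c.L := C.card_mul_index
      have hkL : Nat.card (ConjClasses c.L) + o ≤ k := ho2
      have h4 := sq_ge_four_mul hkL
      have h2m : 2 ^ m ≤ r ^ m := Nat.pow_le_pow_left hr.out.two_le m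
      have hVge : Nat.card c.V ≤ 2 * (Nat.card c.V - 1) := by omega
      have hCpos : 0 < Nat.card C := Nat.card_pos
      refine Nat.le_of_mul_le_mul_right (?_ : 2 ^ (m + 1) * Nat.card C ≤ _ * Nat.card C) hCpos
      calc 2 ^ (m + 1) * Nat.card C = 2 * (Nat.card C * 2 ^ m) := by ring
        _ ≤ 2 * (Nat.card c.V * Nat.card (ConjClasses C)) :=
            Nat.mul_le_mul_left _ ((Nat.mul_le_mul_left _ h2m).trans hfe)
        _ ≤ 2 * (2 * (Nat.card c.V - 1) * (m * Nat.card (ConjClasses c.L))) :=
            Nat.mul_le_mul_left _ (Nat.mul_le_mul hVge hkC)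
        _ ≤ 2 * (2 * (o * Nat.card c.L) * (m * Nat.card (ConjClasses c.L))) := by
            gcongr
        _ = 4 * Nat.card (ConjClasses c.L) * o * (m * (Nat.card C * m)) := by
            rw [hcardL]; ring
        _ ≤ k ^ 2 * (m * (Nat.card C * m)) := Nat.mul_le_mul_right _ h4
        _ = k ^ 2 * m ^ 2 * Nat.card C := by ring
  · -- non-cyclic
    have hCne : C ≠ ⊤ := by
      intro hCtop
      obtain ⟨a, ha, ha1⟩ : ∃ a ∈ A, a ≠ 1 := by
        by_contra! h
        exact hA1 ((eq_bot_iff_forall A).mpr h)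
      have hac : ∀ g : c.L, g * a = a * g := fun g =>
        (mem_centralizer_iff.mp (show g ∈ C by rw [hCtop]; exact mem_top g) a ha).symm
      have hn : (zpowers a).Normal := ⟨fun b hb g => by
        obtain ⟨i, rfl⟩ := mem_zpowers_iff.mp hb
        rw [(Commute.zpow_right (hac g) i).eq, mul_inv_cancel_right]
        exact hb⟩
      have h1 := (hAmin _ hn (zpowers_le.mpr ha)).resolve_left (zpowers_ne_bot.mpr ha1)
      have h2 : Nat.card A = p := by
        rw [← h1, Nat.card_zpowers, orderOf_eq_prime (hAexp a ha) ha1]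
      rw [hAcard] at h2
      exact absurd (Nat.pow_right_injective hp.out.two_le (h2.trans (pow_one p).symm)) (by omega)
    have hM2 : 2 ≤ Nat.card (ConjClasses (c.L ⧸ C)) := by
      have : Nontrivial (c.L ⧸ C) := QuotientGroup.nontrivial_iff.mpr hCne
      obtain ⟨q, hq⟩ := exists_ne (1 : c.L ⧸ C)
      refine Finite.one_lt_card_iff_nontrivial.mpr
        ⟨⟨ConjClasses.mk q, ConjClasses.mk 1, fun h => hq ?_⟩⟩
      exact isConj_one_left.mp (ConjClasses.mk_eq_mk_iff_isConj.mp h)
    have ho'pos : 1 ≤ o' := by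
      by_contra! h
      interval_cases o'
      omega
    rcases Nat.lt_or_ge 64 p with hp64 | hp64
    swap
    · exact arith_small hp.out hp64 (by omega)
    · refine arith_large hp64.le ?_
      -- the Sylow subgroup centralizes `A`
      have hPC : (P : Subgroup c.L) ≤ C := by
        obtain ⟨a, ha, ha1, hcom⟩ := exists_centralized hAp hA1 P.isPGroup'
          (fun q _ a ha => hA.conj_mem a ha q)
        have hWn : (A ⊓ centralizer ((P : Subgroup c.L) : Set c.L)).Normal := inferInstance
        have h1 := (hAmin _ hWn inf_le_left).resolve_left (fun h => ha1 (mem_bot.mp (h.le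
          ⟨ha, mem_centralizer_iff.mpr hcom⟩)))
        intro g hg
        exact mem_centralizer_iff.mpr fun b hb => (mem_centralizer_iff.mp (h1.ge hb).2 g hg).symm
      have hRB : RB (c.L ⧸ C) (2 ^ expBound RA.d) := by
        obtain ⟨σ, hσinj⟩ : ∃ σ : c.L ⧸ C →* Module.End (AlgebraicClosure (ZMod p))
            (Fin RA.d → AlgebraicClosure (ZMod p)), Function.Injective σ := by
          have hker : ∀ g : c.L, RA.ρ g = 1 ↔ g ∈ C := fun g => by
            rw [RA.rho_eq_one]
            refine ⟨fun h => mem_centralizer_iff.mpr fun a ha =>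
              (commutatorElement_eq_one_iff_mul_comm.mp (mem_bot.mp (h a ha))).symm,
              fun h a ha => ?_⟩
            rw [mem_bot, commutatorElement_eq_one_iff_mul_comm]
            exact (mem_centralizer_iff.mp h a ha).symm
          refine ⟨QuotientGroup.lift C RA.ρ fun g hg => (hker g).mpr hg, ?_⟩
          rw [injective_iff_map_eq_one]
          intro q hq
          induction q using QuotientGroup.induction_on with | _ g =>
          exact (QuotientGroup.eq_one_iff _).mpr ((hker g).mp hq)
        have := linear_bound p σ hσinj (by rw [Module.finrank_fin_fun]; exact hd1)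
          (fun U _ hU => ?_)
        · rwa [Module.finrank_fin_fun] at this
        · obtain ⟨n, hn⟩ := hU.exists_card_eq
          refine Subgroup.card_eq_one.mp ?_
          rcases Nat.eq_zero_or_pos n with h0 | h0
          · rw [hn, h0, pow_zero]
          · refine absurd ?_ P.not_dvd_index
            refine dvd_trans ?_ (index_dvd_of_le hPC)
            exact (dvd_pow_self p h0.ne').trans (hn ▸ card_subgroup_dvd_card U)
      rw [expBound_of_two_le hd] at hRB
      have h4 := sq_ge_four_mul (a := Nat.card (ConjClasses (c.L ⧸ C))) (b := o') (k := k) (by omega)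
      have hAge : Nat.card A ≤ 2 * (Nat.card A - 1) := by omega
      have h5 : 2 * Nat.card A ≤ k ^ 2 * 2 ^ (6 * RA.d - 4) :=
        calc 2 * Nat.card A ≤ 4 * (o' * C.index) := by omega
          _ ≤ 4 * (o' * (2 ^ (6 * RA.d - 4) * Nat.card (ConjClasses (c.L ⧸ C)))) :=
              Nat.mul_le_mul_left _ (Nat.mul_le_mul_left _ hRB)
          _ = 4 * Nat.card (ConjClasses (c.L ⧸ C)) * o' * 2 ^ (6 * RA.d - 4) := by ring
          _ ≤ k ^ 2 * 2 ^ (6 * RA.d - 4) := Nat.mul_le_mul_right _ h4
      obtain ⟨e, he⟩ := Nat.exists_eq_add_of_le hd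
      rw [hAcard, he] at h5
      have h6 : 6 * (Nat.succ 1 + e) - 4 = 8 + 6 * e := by omega
      rw [h6, pow_add, pow_add] at h5
      have h7 : 2 ^ (6 * e) ≤ p ^ e := by
        rw [pow_mul]; exact Nat.pow_le_pow_left hp64.le e
      have hpos : 0 < p ^ e := pow_pos hp.out.pos e
      have h8 : 2 * p ^ 2 * p ^ e ≤ 256 * k ^ 2 * p ^ e :=
        calc 2 * p ^ 2 * p ^ e = 2 * (p ^ Nat.succ 1 * p ^ e) := by ring
          _ ≤ k ^ 2 * (2 ^ 8 * 2 ^ (6 * e)) := h5
          _ ≤ k ^ 2 * (2 ^ 8 * p ^ e) := by gcongr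
          _ = 256 * k ^ 2 * p ^ e := by ring
      have := Nat.le_of_mul_le_mul_right h8 hpos
      omega

end CfsgLib.ClassLower
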