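import Mathlib
import Cfsg.Agent.Lib.ClassLower.Main

/-!
Reduction to a primitive configuration.
-/

set_option autoImplicit false
set_option linter.style.haveILetI false

namespace CfsgLib.ClassLower

open Subgroup

universe u

theorem two_pow_le_of_sylow_not_normal (p : ℕ) [Fact p.Prime] (n : ℕ) :
    ∀ (G : Type u) [Group G] [Finite G] [Group.IsSolvable G], Nat.card G = n →
      ∀ P : Sylow p G, ¬ (P : Subgroup G).Normal → 2 ^ p ≤ p ^ (3 * Nat.card (ConjClasses G)) := by
  induction n using Nat.strong_induction_on with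
  | _ n IH =>
  intro G _ _ _ hn P hP
  classical
  have hp : p.Prime := Fact.out
  by_cases hquot : ∃ N : Subgroup G, ∃ _ : N.Normal, N ≠ ⊥ ∧
      ¬ ((P : Subgroup G).map (QuotientGroup.mk' N)).Normal
  · obtain ⟨N, hNn, hN1, hN⟩ := hquot
    have hlt : Nat.card (G ⧸ N) < n := by
      rw [← hn, card_eq_card_quotient_mul_card_subgroup N]
      exact lt_mul_of_one_lt_right Nat.card_pos
        (Finite.one_lt_card_iff_nontrivial.mpr ((Subgroup.nontrivial_iff_ne_bot _).mpr hN1))
    refine (IH _ hlt (G ⧸ N) rfl (P.mapSurjective (QuotientGroup.mk'_surjective N)) hN).trans ?_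
    exact Nat.pow_le_pow_right hp.pos (Nat.mul_le_mul_left 3
      (Nat.card_le_card_of_surjective _
        (ConjClasses.map_surjective (QuotientGroup.mk'_surjective N))))
  push Not at hquot
  have hsupn : ∀ N : Subgroup G, N.Normal → N ≠ ⊥ → ((P : Subgroup G) ⊔ N).Normal := by
    intro N hN hN1
    have := hN
    have h1 := (hquot N hN hN1).comap (QuotientGroup.mk' N)
    rwa [comap_map_eq, QuotientGroup.ker_mk'] at h1
  have hG1 : Nontrivial G := by
    by_contra h
    rw [not_nontrivial_iff_subsingleton] at h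
    exact hP ⟨fun a ha g => by rwa [Subsingleton.elim (g * a * g⁻¹) a]⟩
  obtain ⟨V, -, hV, hV1, hVmin⟩ :=
    CfsgLib.SolvableStructure.exists_minimal_normal (N := (⊤ : Subgroup G)) inferInstance
      top_ne_bot
  have := hV
  obtain ⟨r, _, hr, _, _, hexp, hcomm⟩ :=
    CfsgLib.SolvableStructure.minimal_normal_prime hV1 hVmin
  have : Fact r.Prime := ⟨hr⟩
  have hne : ∀ N : Subgroup G, N.Normal → N ≠ ⊥ → ¬ IsPGroup p N := by
    intro N hN hN1 hNp
    have hle : N ≤ P := by
      have : N ⊔ (P : Subgroup G) = P :=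
        P.is_maximal' (IsPGroup.to_sup_of_normal_left hNp P.isPGroup') le_sup_right
      exact le_sup_left.trans this.le
    have := hsupn N hN hN1
    rw [sup_eq_left.mpr hle] at this
    exact hP this
  have hrp : r ≠ p := by
    rintro rfl
    exact hne V hV hV1 (isPGroup_of_pow_eq_one hexp)
  -- uniqueness
  have huniq : ∀ N : Subgroup G, N.Normal → N ≠ ⊥ → V ≤ N := by
    intro N hN hN1
    have := hN
    rcases hVmin (V ⊓ N) inferInstance inf_le_left with h | h
    swap
    · exact inf_eq_left.mp h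
    exfalso
    have hPV := hsupn V hV hV1
    have hPN := hsupn N hN hN1
    have hkey : (((P : Subgroup G) ⊔ V) ⊓ ((P : Subgroup G) ⊔ N)) = P := by
      refine le_antisymm (fun i hi => ?_) (le_inf le_sup_left le_sup_left)
      obtain ⟨a, ha, v, hv, rfl⟩ := mem_sup_of_normal_right.mp hi.1
      have hvI : v ∈ (P : Subgroup G) ⊔ N := by
        have := mul_mem (inv_mem (le_sup_left (b := N) ha)) hi.2
        rwa [inv_mul_cancel_left] at this
      obtain ⟨b, hb, w, hw, hbw⟩ := mem_sup_of_normal_right.mp hvI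
      obtain ⟨j, hj⟩ := P.isPGroup' ⟨b, hb⟩
      have hmk : (QuotientGroup.mk v : G ⧸ N) = QuotientGroup.mk b := by
        rw [QuotientGroup.eq, ← hbw, mul_inv_rev, mul_assoc, inv_mul_cancel, mul_one]
        exact inv_mem hw
      have h1 : (QuotientGroup.mk v : G ⧸ N) ^ p ^ j = 1 := by
        rw [hmk, ← QuotientGroup.mk_pow, show b ^ p ^ j = 1 from congrArg Subtype.val hj]
        rfl
      have h2 : (QuotientGroup.mk v : G ⧸ N) ^ r = 1 := by
        rw [← QuotientGroup.mk_pow, hexp v hv]; rfl
      have h3 := pow_gcd_eq_one.mpr ⟨h1, h2⟩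
      rw [(Nat.Coprime.pow_left j ((Nat.coprime_primes hp hr).mpr hrp.symm)).gcd_eq_one, pow_one,
        QuotientGroup.eq_one_iff] at h3
      have h4 : v ∈ V ⊓ N := ⟨hv, h3⟩
      rw [h, mem_bot] at h4
      rw [h4, mul_one]
      exact ha
    have : (((P : Subgroup G) ⊔ V) ⊓ ((P : Subgroup G) ⊔ N)).Normal := inferInstance
    rw [hkey] at this
    exact hP this
  -- the complement
  set L := normalizer ((P : Subgroup G) : Set G) with hL
  have hPL : (P : Subgroup G) ≤ L := le_normalizer
  have hsup : L ⊔ V = ⊤ := by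
    have hK := hsupn V hV hV1
    have h := Sylow.normalizer_sup_eq_top' P (le_sup_left : (P : Subgroup G) ≤ (P : Subgroup G) ⊔ V)
    exact top_unique (h.ge.trans (sup_le le_sup_left (sup_le (hPL.trans le_sup_left) le_sup_right)))
  have hVc : ∀ a ∈ V, ∀ b ∈ V, a * b = b * a := fun a ha b hb =>
    CfsgLib.SolvableStructure.commute_of_isMulCommutative (h := hcomm) ha hb
  have hcomp : ∀ W : Subgroup G, W.Normal → V ≤ centralizer (W : Set G) → L ⊓ W = ⊥ := by
    intro W hW hVW
    by_contra hne'
    have hn' : (L ⊓ W).Normal := by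
      refine ⟨fun w hw g => ?_⟩
      obtain ⟨l, hl, v, hv, rfl⟩ := mem_sup_of_normal_right.mp (hsup ▸ mem_top g)
      have h1 : v * w * v⁻¹ = w := by
        rw [← mem_centralizer_iff.mp (hVW hv) w hw.2, mul_inv_cancel_right]
      rw [show l * v * w * (l * v)⁻¹ = l * (v * w * v⁻¹) * l⁻¹ by group, h1]
      exact ⟨L.mul_mem (L.mul_mem hl hw.1) (L.inv_mem hl), hW.conj_mem w hw.2 l⟩
    have hVL : V ≤ L := (huniq _ hn' hne').trans inf_le_left
    rw [sup_eq_left.mpr hVL] at hsup
    exact hP (normalizer_eq_top_iff.mp hsup)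
  have hLV : L ⊓ V = ⊥ := hcomp V hV fun a ha => mem_centralizer_iff.mpr fun b hb => hVc b hb a ha
  have hcent : centralizer (V : Set G) = V := by
    have hLC : L ⊓ centralizer (V : Set G) = ⊥ := hcomp _ inferInstance
      fun v hv => mem_centralizer_iff.mpr fun c hc => (mem_centralizer_iff.mp hc v hv).symm
    refine le_antisymm (fun c hc => ?_)
      fun a ha => mem_centralizer_iff.mpr fun b hb => hVc b hb a ha
    obtain ⟨l, hl, v, hv, rfl⟩ := mem_sup_of_normal_right.mp (hsup ▸ mem_top c)
    have hlC : l ∈ L ⊓ centralizer (V : Set G) := ⟨hl, by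
      have := mul_mem hc (inv_mem (mem_centralizer_iff.mpr fun b hb => hVc b hb v hv :
        v ∈ centralizer (V : Set G)))
      rwa [mul_inv_cancel_right] at this⟩
    rw [hLC, mem_bot] at hlC
    rw [hlC, one_mul]; exact hv
  have hsyl : ∀ Q : Sylow p L, (Q : Subgroup L).Normal := by
    intro Q
    let P' : Sylow p L := P.subtype hPL
    have hP' : (P' : Subgroup L).Normal := by
      show ((P : Subgroup G).subgroupOf L).Normal
      exact Subgroup.normal_subgroupOf_of_le_normalizer le_rfl
    have : Subsingleton (Sylow p L) := (Sylow.unique_of_normal P' hP').instSubsingleton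
    rw [Subsingleton.elim Q P']
    exact hP'
  have hdvd : p ∣ Nat.card L := by
    refine dvd_trans ?_ (card_dvd_of_le hPL)
    obtain ⟨j, hj⟩ := P.isPGroup'.exists_card_eq
    rw [hj]
    refine dvd_pow_self p fun h0 => hP ?_
    rw [h0, pow_zero, Subgroup.card_eq_one] at hj
    rw [hj]; infer_instance
  exact Config.bound (r := r) ⟨V, L, hV, hV1,
    fun W hW hW1 hWV => le_antisymm hWV (huniq W hW hW1), hexp, hcent, hLV, hsup, hdvd, hsyl, hrp⟩

end CfsgLib.ClassLower
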